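import Groth.Agent.Div21LineLib.LocAt
import Groth.Agent.SquareLib.Generic
import Groth.Agent.NormalExtLib.Scheme
import Groth.Agent.BlowUpLib.Cartier
import Groth.Agent.ModGlueLib.Basic

/-!
# Frames over the maximal points of a normal base
-/

set_option autoImplicit false
set_option backward.isDefEq.respectTransparency.types false

universe u

open CategoryTheory CategoryTheory.Limits AlgebraicGeometry TopologicalSpace IsLocalRing
open KFlatLib (pb puSec)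
open AmpleLib (res GenAt GenOn)

noncomputable section

namespace Div21LineLib

open DivDescLib

variable {X Y : Scheme.{u}}

/-- A maximal point. -/
def Mx (η : Y) : Prop := ∀ z : Y, z ⤳ η → z = η

/-- An affine neighbourhood of a point with domain of sections and injective germ. -/
theorem exists_good [IsLocallyNoetherian Y] (hY : Pi1.IsNormalScheme Y) (y : Y) (T : Y.Opens) (hy : y ∈ T) :
    ∃ W : Y.affineOpens, y ∈ W.1 ∧ W.1 ≤ T ∧ IsDomain Γ(Y, W.1) := by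
  haveI := (hY y).1
  obtain ⟨W, hyW, hW, hle, hinj⟩ := Y.exists_le_and_germ_injective y T hy
  exact ⟨⟨W, hW⟩, hyW, hle, hinj.isDomain (Y.presheaf.germ W y hyW).hom⟩

theorem germ_injective (W : Y.affineOpens) [IsDomain Γ(Y, W.1)] {y : Y} (hy : y ∈ W.1) :
    Function.Injective (Y.presheaf.germ W.1 y hy).hom := by
  letI := Y.presheaf.algebra_section_stalk (⟨y, hy⟩ : W.1)
  haveI := W.2.isLocalization_stalk ⟨y, hy⟩
  exact IsLocalization.injective (S := Y.presheaf.stalk y)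
    (Ideal.primeCompl_le_nonZeroDivisors (W.2.primeIdealOf ⟨y, hy⟩).asIdeal)

/-- A point where all nonzero sections of a domain are units is maximal, and conversely. -/
theorem mx_of_isUnit (W : Y.affineOpens) [IsDomain Γ(Y, W.1)] {η : Y} (hη : η ∈ W.1)
    (h : ∀ a : Γ(Y, W.1), a ≠ 0 → IsUnit ((Y.presheaf.germ W.1 η hη).hom a)) :
    Mx η ∧ ∀ z ∈ W.1, η ⤳ z := by
  have h2 : ∀ z (hz : z ∈ W.1), η ⤳ z := fun z hz => (SDivLib.specializes_iff_prm W hz hη).2 fun a ha => by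
    by_cases h0 : a = 0
    · rw [h0]; exact zero_mem _
    · exact absurd (h a h0) ((SDivLib.mem_prm_iff _ _ _).1 ha)
  exact ⟨fun z hz => (hz.antisymm (h2 z (hz.mem_open W.1.2 hη))).eq, h2⟩

theorem isUnit_germ_of_mx [IsLocallyNoetherian Y] (hY : Pi1.IsNormalScheme Y) (W : Y.affineOpens)
    [IsDomain Γ(Y, W.1)] {η : Y} (hη : η ∈ W.1) (hmx : Mx η) {a : Γ(Y, W.1)} (ha : a ≠ 0) :
    IsUnit ((Y.presheaf.germ W.1 η hη).hom a) := by
  by_contra h
  have h' := (mem_maximalIdeal _).2 h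
  rw [field_of_maximal hY hmx, Submodule.mem_bot] at h'
  exact ha (germ_injective W hη (h'.trans (map_zero _).symm))

/-- There is one maximal point in an open with domain of sections. -/
theorem mx_unique [IsLocallyNoetherian Y] (hY : Pi1.IsNormalScheme Y) (W : Y.affineOpens) [IsDomain Γ(Y, W.1)]
    {η η' : Y} (hη : η ∈ W.1) (hη' : η' ∈ W.1) (h : Mx η) (h' : Mx η') : η = η' :=
  h' η ((mx_of_isUnit W hη fun _ ha => isUnit_germ_of_mx hY W hη h ha).2 η' hη')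

variable (f : X ⟶ Y)

theorem isUnit_φW [IsLocallyNoetherian Y] (hY : Pi1.IsNormalScheme Y) (W : Y.affineOpens) [IsDomain Γ(Y, W.1)]
    {x : X} (hx : f x ∈ W.1) (hmx : Mx (f x)) {a : Γ(Y, W.1)} (ha : a ≠ 0) : IsUnit (φW f W.1 x hx a) :=
  (isUnit_germ_of_mx hY W hx hmx ha).map (f.stalkMap x).hom

/-- An open set containing the points over maximal points contains the complement of a nonzero equation. -/
theorem exists_unit_subset (W : Y.affineOpens) [IsDomain Γ(Y, W.1)] (V : X.affineOpens)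
    (hVW : V.1 ≤ f ⁻¹ᵁ W.1) (Ω : X.Opens) (hΩ : ∀ p : X, Mx (f p) → p ∈ Ω) :
    ∃ a : Γ(Y, W.1), a ≠ 0 ∧ ∀ p (hp : p ∈ V.1), IsUnit (φW f W.1 p (hVW hp) a) → p ∈ Ω := by
  let S : Set Γ(X, V.1) := {h | X.basicOpen h ≤ Ω}
  by_cases hex : ∃ a : Γ(Y, W.1), a ≠ 0 ∧ (f.appLE W.1 V.1 hVW).hom a ∈ Ideal.span S
  · obtain ⟨a, ha, hmem⟩ := hex
    refine ⟨a, ha, fun p hp hu => ?_⟩
    by_contra hpΩ
    have hle : Ideal.span S ≤ (maximalIdeal (X.presheaf.stalk p)).comap (X.presheaf.germ V.1 p hp).hom :=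
      Ideal.span_le.2 fun h hh => (mem_maximalIdeal _).2 fun hu' => hpΩ (hh ((Scheme.mem_basicOpen _ _ _ hp).2 hu'))
    refine (mem_maximalIdeal _).1 (hle hmem) ?_
    rwa [φW, ← germ_stalkMap_appLE f W.1 V.1 hVW hp] at hu
  push Not at hex
  exfalso
  have hdis : Disjoint ((Ideal.span S : Ideal _) : Set Γ(X, V.1))
      ((nonZeroDivisors Γ(Y, W.1)).map (f.appLE W.1 V.1 hVW).hom : Submonoid Γ(X, V.1)) := by
    rw [Set.disjoint_left]
    rintro _ hmem ⟨a, ha, rfl⟩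
    exact hex a (nonZeroDivisors.ne_zero ha) hmem
  obtain ⟨P, hP, hle, hdisP⟩ := Ideal.exists_le_prime_disjoint _ _ hdis
  haveI := hP
  obtain ⟨p, hp, rfl⟩ := SDivLib.exists_point V P
  have hmx := (mx_of_isUnit W (η := f p) (hVW hp) fun a ha => by
    refine isUnit_of_map_unit (f.stalkMap p).hom _ ?_
    change IsUnit (φW f W.1 p (hVW hp) a)
    rw [φW, ← germ_stalkMap_appLE f W.1 V.1 hVW hp]
    by_contra hu
    exact Set.disjoint_left.1 hdisP ((SDivLib.mem_prm_iff _ _ _).2 hu)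
      ⟨a, mem_nonZeroDivisors_of_ne_zero ha, rfl⟩).1
  obtain ⟨h, hh, hph⟩ := V.2.exists_basicOpen_le (⟨p, hΩ p hmx⟩ : Ω) hp
  exact (SDivLib.mem_prm_iff _ _ _).1 (hle (Ideal.subset_span hh)) ((Scheme.mem_basicOpen _ _ _ hp).1 hph)

/-- Functions vanishing at the points over maximal points vanish. -/
theorem fun_eq_zero [IsLocallyNoetherian Y] [Flat f] (hY : Pi1.IsNormalScheme Y) {O : X.Opens} (r : Γ(X, O))
    (h : ∀ p (hp : p ∈ O), Mx (f p) → (X.presheaf.germ O p hp).hom r = 0) : r = 0 := by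
  refine TopCat.Presheaf.section_ext X.sheaf O r 0 fun x hx => ?_
  refine Eq.trans ?_ (map_zero (X.presheaf.germ O x hx).hom).symm
  obtain ⟨W, hyW, -, hdom⟩ := exists_good hY (f x) ⊤ trivial
  obtain ⟨V, hV, hxV, hle⟩ := exists_isAffineOpen_mem_and_subset (x := x) (U := O ⊓ f ⁻¹ᵁ W.1) ⟨hx, hyW⟩
  have hVO : V ≤ O := fun p hp => (hle hp).1
  have hVW : V ≤ f ⁻¹ᵁ W.1 := fun p hp => (hle hp).2
  let ψ := (f.appLE W.1 V hVW).hom
  let t := (X.presheaf.map (homOfLE hVO).op).hom r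
  have hgr : ∀ p (hp : p ∈ V), (X.presheaf.germ V p hp).hom t = (X.presheaf.germ O p (hVO hp)).hom r :=
    fun p hp => X.presheaf.germ_res_apply _ p hp r
  by_cases hex : ∃ a : Γ(Y, W.1), a ≠ 0 ∧ ψ a * t = 0
  · obtain ⟨a, ha, hat⟩ := hex
    haveI := (hY (f x)).1
    have hnz : φW f W.1 x hyW a ∈ nonZeroDivisors (X.presheaf.stalk x) :=
      BlowUpLib.nzd_of_flat _ (flat_stalkMap f x) (mem_nonZeroDivisors_of_ne_zero fun h0 =>
        ha (germ_injective W hyW (h0.trans (map_zero _).symm)))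
    refine mem_nonZeroDivisors_iff_right.1 hnz _ ?_
    change (X.presheaf.germ O x hx).hom r * _ = 0
    rw [mul_comm, φW, ← germ_stalkMap_appLE f W.1 V hVW hxV, ← hgr x hxV, RingHom.comp_apply, ← map_mul]
    exact (congrArg _ hat).trans (map_zero _)
  push Not at hex
  exfalso
  let I : Ideal Γ(X, V) := (⊥ : Ideal Γ(X, V)).colon {t}
  have hdis : Disjoint (I : Set Γ(X, V)) ((nonZeroDivisors Γ(Y, W.1)).map ψ : Submonoid Γ(X, V)) := by
    rw [Set.disjoint_left]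
    rintro _ hmem ⟨a, ha, rfl⟩
    exact hex a (nonZeroDivisors.ne_zero ha) ((Submodule.mem_bot _).1 (Submodule.mem_colon_singleton.1 hmem))
  obtain ⟨P, hP, hle', hdisP⟩ := Ideal.exists_le_prime_disjoint _ _ hdis
  haveI := hP
  obtain ⟨p, hp, rfl⟩ := SDivLib.exists_point ⟨V, hV⟩ P
  have hmx := (mx_of_isUnit W (η := f p) (hVW hp) fun a ha => by
    refine isUnit_of_map_unit (f.stalkMap p).hom _ ?_
    change IsUnit (φW f W.1 p (hVW hp) a)
    rw [φW, ← germ_stalkMap_appLE f W.1 V hVW hp]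
    by_contra hu
    exact Set.disjoint_left.1 hdisP ((SDivLib.mem_prm_iff _ _ _).2 hu)
      ⟨a, mem_nonZeroDivisors_of_ne_zero ha, rfl⟩).1
  obtain ⟨d, hd, hdt⟩ := (germ_mem_iff ⟨V, hV⟩ (⊥ : Ideal _) hp t).1
    (by rw [hgr p hp, h p _ hmx]; exact zero_mem _)
  exact hd (hle' (Submodule.mem_colon_singleton.2 hdt))

/-- Functions agreeing at the points over maximal points are equal. -/
theorem fun_ext [IsLocallyNoetherian Y] [Flat f] (hY : Pi1.IsNormalScheme Y) {O : X.Opens} (r r' : Γ(X, O))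
    (h : ∀ p (hp : p ∈ O), Mx (f p) → (X.presheaf.germ O p hp).hom r = (X.presheaf.germ O p hp).hom r') : r = r' :=
  sub_eq_zero.1 (fun_eq_zero f hY _ fun p hp hmx => by rw [map_sub, h p hp hmx, sub_self])

/-- Sections agreeing at the points over maximal points are equal. -/
theorem sec_ext [IsLocallyNoetherian Y] [Flat f] (hY : Pi1.IsNormalScheme Y) {L : X.Modules}
    (hL : PicF.IsInvertible L) {O : X.Opens} (s t : Γ(L, O))
    (h : ∀ p (hp : p ∈ O), Mx (f p) → L.presheaf.germ O p hp s = L.presheaf.germ O p hp t) : s = t := by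
  refine ModGlueLib.eq_of_locally _ _ fun x hx => ?_
  obtain ⟨U, ν, hxU, hν⟩ := TwistLib.exists_genOn hL x
  refine ⟨U ⊓ O, inf_le_right, ⟨hxU, hx⟩, ?_⟩
  obtain ⟨c, hc⟩ := (hν (U ⊓ O) inf_le_left).2 (res L inf_le_right s)
  obtain ⟨d, hd⟩ := (hν (U ⊓ O) inf_le_left).2 (res L inf_le_right t)
  dsimp only at hc hd
  refine hc.symm.trans ((congrArg (fun q => q • res L inf_le_left ν) (fun_ext f hY c d fun p hp hmx => ?_)).trans hd)
  refine ((hν.res inf_le_left).genAt hp).1 ?_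
  dsimp only
  rw [← AmpleLib.germ_smul, ← AmpleLib.germ_smul, hc, hd, AmpleLib.germ_res, AmpleLib.germ_res]
  exact h p _ hmx

theorem puGerm_smul {Z : Scheme.{u}} (ι : Z ⟶ X) {L : X.Modules} {O O' : X.Opens} (σ : Γ(L, O)) (σ' : Γ(L, O'))
    {w : Z} (hw : ι w ∈ O) (hw' : ι w ∈ O') (c : X.presheaf.stalk (ι w))
    (h : L.presheaf.germ O (ι w) hw σ = c • L.presheaf.germ O' (ι w) hw' σ') :
    (pb ι L).presheaf.germ (ι ⁻¹ᵁ O) w hw (puSec ι σ) =
      (ι.stalkMap w).hom c • (pb ι L).presheaf.germ (ι ⁻¹ᵁ O') w hw' (puSec ι σ') := by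
  obtain ⟨U, hU, r, rfl⟩ := X.presheaf.exists_germ_eq c
  let r' : Γ(X, U ⊓ O') := X.presheaf.map (homOfLE (inf_le_left : U ⊓ O' ≤ U)).op r
  have hT : ι w ∈ U ⊓ O' := ⟨hU, hw'⟩
  let τ : Γ(L, U ⊓ O') := r' • res L inf_le_right σ'
  rw [SquareLib.puSec_germ_eq ι σ τ hw hT (by
      dsimp only [τ, r']
      rw [h, AmpleLib.germ_smul, AmpleLib.germ_res, TopCat.Presheaf.germ_res_apply]),
    TwistLib.puSec_smul, AmpleLib.germ_smul, TwistLib.puSec_res, AmpleLib.germ_res]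
  congr 1
  refine (Scheme.Hom.germ_stalkMap_apply ι (U ⊓ O') w hT r').symm.trans (congrArg (ι.stalkMap w).hom ?_)
  exact TopCat.Presheaf.germ_res_apply _ _ _ _ r

theorem bijective_stalkMap [IsLocallyNoetherian Y] (hY : Pi1.IsNormalScheme Y) {η : Y} (hη : Mx η)
    (w : f.fiber η) : Function.Bijective ((f.fiberι η).stalkMap w).hom := by
  obtain ⟨hs, hk⟩ := Groth.Agent.S9501.result f η w
  refine ⟨(RingHom.injective_iff_ker_eq_bot _).2 (hk.trans ?_), hs⟩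
  have he : f (f.fiberι η w) = η := by
    have h' : f.fiberι η w ∈ Set.range (f.fiberι η) := ⟨w, rfl⟩
    rwa [f.range_fiberι] at h'
  have key : ∀ z : Y, z = η → maximalIdeal (Y.presheaf.stalk z) = ⊥ := by
    rintro z rfl; exact field_of_maximal hY hη
  rw [key _ he, Ideal.map_bot]

/-- A generator at a point generates nearby. -/
theorem exists_genOn_nbhd {L : X.Modules} (hL : PicF.IsInvertible L) {W : X.Opens} {σ : Γ(L, W)} {x : X} {hx : x ∈ W}
    (h : GenAt L σ hx) : ∃ (T : X.Opens) (hT : T ≤ W), x ∈ T ∧ GenOn L (res L hT σ) := by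
  obtain ⟨U, e, hxU, he⟩ := TwistLib.exists_genOn hL x
  obtain ⟨r, hr⟩ := (he (U ⊓ W) inf_le_left).2 (res L inf_le_right σ)
  dsimp only at hr
  have hrx : x ∈ X.basicOpen r := by
    refine (AmpleLib.genAt_smul_iff r _ (show x ∈ U ⊓ W from ⟨hxU, hx⟩)
      ((AmpleLib.genAt_res (inf_le_left : U ⊓ W ≤ U) e (show x ∈ U ⊓ W from ⟨hxU, hx⟩)).2 (he.genAt hxU))).1 ?_
    rw [hr]
    exact (AmpleLib.genAt_res (inf_le_right : U ⊓ W ≤ W) σ (show x ∈ U ⊓ W from ⟨hxU, hx⟩)).2 h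
  refine ⟨X.basicOpen r, (X.basicOpen_le r).trans inf_le_right, hrx, TwistLib.genOn_of_genAt fun y hy => ?_⟩
  rw [AmpleLib.genAt_res,
    ← AmpleLib.genAt_res (inf_le_right : U ⊓ W ≤ W) σ (X.basicOpen_le r hy), ← hr]
  exact (AmpleLib.genAt_smul_iff r _ _ ((AmpleLib.genAt_res (inf_le_left : U ⊓ W ≤ U) e (X.basicOpen_le r hy)).2 (he.genAt (X.basicOpen_le r hy).1))).2 hy

/-- A generator near a point over a maximal point inducing a given generator on the fibre. -/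
theorem exists_loc [IsLocallyNoetherian Y] (hY : Pi1.IsNormalScheme Y) {L : X.Modules} (hL : PicF.IsInvertible L)
    {η : Y} (hη : Mx η) (s : Γ(pb (f.fiberι η) L, (⊤ : (f.fiber η).Opens)))
    (hs : ∀ w : f.fiber η, GenAt (pb (f.fiberι η) L) s (show w ∈ (⊤ : (f.fiber η).Opens) from trivial))
    (w : f.fiber η) :
    ∃ (O : X.Opens) (_ : f.fiberι η w ∈ O) (σ : Γ(L, O)), GenOn L σ ∧ (∀ p ∈ O, Mx (f p) → f p = η) ∧
      ∀ w' (h : f.fiberι η w' ∈ O), (pb (f.fiberι η) L).presheaf.germ (f.fiberι η ⁻¹ᵁ O) w' h (puSec (f.fiberι η) σ) =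
        (pb (f.fiberι η) L).presheaf.germ ⊤ w' trivial s := by
  let ι := f.fiberι η
  obtain ⟨W, hηW, -, hdom⟩ := exists_good hY η ⊤ trivial
  have he : f (ι w) = η := by
    have h' : ι w ∈ Set.range ι := ⟨w, rfl⟩
    rwa [f.range_fiberι] at h'
  obtain ⟨O₀, σ₀, hwO, hσ₀⟩ := TwistLib.exists_genOn hL (ι w)
  have hε := TwistLib.GenAt.puSec ι (U := O₀) (m := σ₀) (hx := hwO) (hσ₀.genAt hwO)
  obtain ⟨c, hc⟩ := hε.2 ((pb ι L).presheaf.germ ⊤ w trivial s)
  obtain ⟨d, hd⟩ := (hs w).2 ((pb ι L).presheaf.germ (ι ⁻¹ᵁ O₀) w hwO (puSec ι σ₀))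
  dsimp only at hc hd
  have hcu : IsUnit c := isUnit_iff_exists_inv'.2 ⟨d, hε.1 (by
    dsimp only
    rw [mul_smul, hc, hd, one_smul])⟩
  obtain ⟨c', rfl⟩ := (bijective_stalkMap f hY hη w).2 c
  have hc'u : IsUnit c' := isUnit_of_map_unit (ι.stalkMap w).hom c' hcu
  obtain ⟨U, hU, r, rfl⟩ := X.presheaf.exists_germ_eq c'
  let T : X.Opens := (U ⊓ O₀) ⊓ f ⁻¹ᵁ W.1
  have hwT : ι w ∈ T := ⟨⟨hU, hwO⟩, show f (ι w) ∈ W.1 by rw [he]; exact hηW⟩
  have hTU : T ≤ U := inf_le_left.trans inf_le_left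
  have hTO : T ≤ O₀ := inf_le_left.trans inf_le_right
  let σ₁ : Γ(L, T) := (X.presheaf.map (homOfLE hTU).op).hom r • res L hTO σ₀
  have hσ₁germ : L.presheaf.germ T (ι w) hwT σ₁ = (X.presheaf.germ U (ι w) hU).hom r • L.presheaf.germ O₀ (ι w) hwO σ₀ := by
    rw [AmpleLib.germ_smul, AmpleLib.germ_res]
    exact congrArg (fun q => q • _) (TopCat.Presheaf.germ_res_apply _ _ _ _ r)
  have hσ₁ : GenAt L σ₁ hwT := by
    refine (AmpleLib.genAt_smul_iff _ _ hwT ((AmpleLib.genAt_res hTO σ₀ hwT).2 (hσ₀.genAt _))).2 ?_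
    rw [Scheme.mem_basicOpen _ _ _ hwT]
    change IsUnit ((X.presheaf.germ T (ι w) hwT).hom _)
    erw [TopCat.Presheaf.germ_res_apply]
    exact hc'u
  obtain ⟨T', hT', hwT', hgen⟩ := exists_genOn_nbhd hL hσ₁
  have hgerm : (pb ι L).presheaf.germ (ι ⁻¹ᵁ T) w hwT (puSec ι σ₁) = (pb ι L).presheaf.germ ⊤ w trivial s := by
    rw [puGerm_smul ι σ₁ σ₀ hwT hwO _ hσ₁germ]
    exact hc
  obtain ⟨Q, hwQ, i₁, i₂, eQ⟩ := TopCat.Presheaf.germ_eq (pb ι L).presheaf w hwT (show w ∈ (⊤ : (f.fiber η).Opens) from trivial) _ _ hgerm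
  obtain ⟨Q', hQ', hQQ'⟩ := ι.isEmbedding.isInducing.isOpen_iff.1 Q.2
  refine ⟨T' ⊓ ⟨Q', hQ'⟩, ⟨hwT', hQQ'.ge hwQ⟩,
    res L inf_le_left (res L hT' σ₁), hgen.res inf_le_left, fun p hp hmx => ?_, fun w' hw' => ?_⟩
  · exact mx_unique hY W (hT' hp.1).2 hηW hmx hη
  · have hw'Q : w' ∈ Q := hQQ'.le hw'.2
    have := congrArg ((pb ι L).presheaf.germ Q w' hw'Q) eQ
    rw [TopCat.Presheaf.germ_res_apply, TopCat.Presheaf.germ_res_apply] at this
    rw [TwistLib.puSec_res, AmpleLib.germ_res, TwistLib.puSec_res, AmpleLib.germ_res]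
    exact this

/-- Generators trivial on the maximal fibres glue to a frame. -/
theorem exists_frame [IsLocallyNoetherian Y] [Flat f] (hY : Pi1.IsNormalScheme Y) {L : X.Modules}
    (hL : PicF.IsInvertible L)
    (htriv : ∀ η : Y, Mx η → Nonempty (pb (f.fiberι η) L ≅ Coh.structureModule (f.fiber η))) :
    ∃ (Ω : X.Opens) (E : Γ(L, Ω)), GenOn L E ∧ ∀ p : X, Mx (f p) → p ∈ Ω := by
  let s : ∀ (η : Y) (_ : Mx η), Γ(pb (f.fiberι η) L, (⊤ : (f.fiber η).Opens)) := fun η hη =>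
    (htriv η hη).some.inv.app ⊤ (1 : Γ(f.fiber η, ⊤))
  have hs : ∀ η hη (w : f.fiber η),
      GenAt (pb (f.fiberι η) L) (s η hη) (show w ∈ (⊤ : (f.fiber η).Opens) from trivial) := fun η hη w =>
    (TwistLib.genAt_app_iso (htriv η hη).some.symm _ _).2 ((AmpleLib.one_genOn ⊤).genAt _)
  have hpre : ∀ p : X, ∃ w : f.fiber (f p), f.fiberι (f p) w = p := fun p =>
    show p ∈ Set.range (f.fiberι (f p)) by rw [f.range_fiberι]; rfl
  let κ := {p : X // Mx (f p)}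
  choose w hw using hpre
  have hloc : ∀ p : κ, _ := fun p => exists_loc f hY hL p.2 (s _ p.2) (hs _ p.2) (w p.1)
  choose O hwO σ hgen hone hgerm using hloc
  have hagree : ∀ (i j : κ), ModGlueLib.rs L (inf_le_left : O i ⊓ O j ≤ O i) (σ i) =
      ModGlueLib.rs L (inf_le_right : O i ⊓ O j ≤ O j) (σ j) := by
    intro i j
    refine sec_ext f hY hL _ _ fun p hp hmx => ?_
    change L.presheaf.germ _ p hp (res L inf_le_left (σ i)) = L.presheaf.germ _ p hp (res L inf_le_right (σ j))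
    rw [AmpleLib.germ_res, AmpleLib.germ_res]
    obtain ⟨ip, hi⟩ := i
    obtain ⟨jp, hj⟩ := j
    have ei := hone ⟨ip, hi⟩ p hp.1 hmx
    have ej := hone ⟨jp, hj⟩ p hp.2 hmx
    have hgi := hgerm ⟨ip, hi⟩
    have hgj := hgerm ⟨jp, hj⟩
    dsimp only at ei ej hgi hgj
    generalize σ ⟨ip, hi⟩ = a at hgi ⊢
    generalize hbdef : σ ⟨jp, hj⟩ = b at hgj ⊢
    have hb := (hgen ⟨jp, hj⟩)
    rw [hbdef] at hb
    have main : ∀ (η : Y) (hη : Mx η) (_ : f p = η) (O₁ O₂ : X.Opens) (a : Γ(L, O₁)) (b : Γ(L, O₂))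
        (h₁ : p ∈ O₁) (h₂ : p ∈ O₂) (_ : GenAt L b h₂)
        (_ : ∀ v (h : f.fiberι η v ∈ O₁), (pb (f.fiberι η) L).presheaf.germ (f.fiberι η ⁻¹ᵁ O₁) v h
          (puSec (f.fiberι η) a) = (pb (f.fiberι η) L).presheaf.germ ⊤ v trivial (s η hη))
        (_ : ∀ v (h : f.fiberι η v ∈ O₂), (pb (f.fiberι η) L).presheaf.germ (f.fiberι η ⁻¹ᵁ O₂) v h
          (puSec (f.fiberι η) b) = (pb (f.fiberι η) L).presheaf.germ ⊤ v trivial (s η hη)),
        L.presheaf.germ O₁ p h₁ a = L.presheaf.germ O₂ p h₂ b := by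
      rintro η hη e O₁ O₂ a b h₁ h₂ hb ga gb
      obtain ⟨v, hv⟩ : p ∈ Set.range (f.fiberι η) := by rw [f.range_fiberι]; exact e
      subst hv
      obtain ⟨c, hc⟩ := hb.2 (L.presheaf.germ O₁ _ h₁ a)
      dsimp only at hc
      have h1 := puGerm_smul (f.fiberι η) a b h₁ h₂ c hc.symm
      rw [ga v h₁, gb v h₂] at h1
      have h2 : ((f.fiberι η).stalkMap v).hom c = 1 := (hs η hη v).1 (by
        dsimp only
        rw [← h1, one_smul])
      have h3 : c = 1 := (bijective_stalkMap f hY hη v).1 (h2.trans (map_one _).symm)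
      rw [← hc, h3, one_smul]
    have eij : f jp = f ip := ej.symm.trans ei
    have conv : ∀ (η : Y) (hη : Mx η), η = f ip → ∀ (O₂ : X.Opens) (b : Γ(L, O₂)),
        (∀ v (h : f.fiberι η v ∈ O₂), (pb (f.fiberι η) L).presheaf.germ (f.fiberι η ⁻¹ᵁ O₂) v h
          (puSec (f.fiberι η) b) = (pb (f.fiberι η) L).presheaf.germ ⊤ v trivial (s η hη)) →
        (∀ v (h : f.fiberι (f ip) v ∈ O₂), (pb (f.fiberι (f ip)) L).presheaf.germ (f.fiberι (f ip) ⁻¹ᵁ O₂) v h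
          (puSec (f.fiberι (f ip)) b) = (pb (f.fiberι (f ip)) L).presheaf.germ ⊤ v trivial (s (f ip) hi)) := by
      rintro η hη rfl O₂ b h; exact h
    exact main (f ip) hi ei _ _ a b hp.1 hp.2 (hb.genAt _) hgi (conv (f jp) hj eij _ b hgj)
  let Ω : X.Opens := ⨆ i, O i
  obtain ⟨E, hE⟩ := ModGlueLib.exists_glue (M := L) (V := Ω) O (fun i => le_iSup O i)
    (fun x hx => Opens.mem_iSup.1 hx) σ hagree
  refine ⟨Ω, E, TwistLib.genOn_of_genAt fun x hx => ?_, fun p hp => Opens.mem_iSup.2 ⟨⟨p, hp⟩, ?_⟩⟩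
  · obtain ⟨i, hi⟩ := Opens.mem_iSup.1 hx
    have h1 : GenAt L (res L (le_iSup O i) E) hi := by
      rw [show res L (le_iSup O i) E = σ i from hE i]
      exact (hgen i).genAt hi
    exact (AmpleLib.genAt_res _ _ hi).1 h1
  · have := hwO ⟨p, hp⟩
    rwa [hw] at this

end Div21LineLib

end
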