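import Groth.Agent.DivDescLib.Local
import Groth.Agent.EffCartLib.Basic

/-!
# The ideal sheaf of a family of local equations
-/

set_option autoImplicit false
set_option backward.isDefEq.respectTransparency.types false

universe u

open CategoryTheory AlgebraicGeometry TopologicalSpace IsLocalRing

noncomputable section

namespace Div21LineLib

variable {X : Scheme.{u}} (c : ∀ x : X, X.presheaf.stalk x)

/-- Sections lying in the stalk ideals generated by the family. -/
def idl (V : X.Opens) : Ideal Γ(X, V) :=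
  ⨅ (x : X) (hx : x ∈ V), (Ideal.span {c x}).comap (X.presheaf.germ V x hx).hom

theorem mem_idl {V : X.Opens} {t : Γ(X, V)} :
    t ∈ idl c V ↔ ∀ (x : X) (hx : x ∈ V), (X.presheaf.germ V x hx).hom t ∈ Ideal.span {c x} := by
  simp [idl, Ideal.mem_iInf]

variable (hloc : ∀ x : X, ∃ (O : X.affineOpens) (r : Γ(X, O.1)), x ∈ O.1 ∧
  ∀ (x' : X) (hx' : x' ∈ O.1), Ideal.span {(X.presheaf.germ O.1 x' hx').hom r} = Ideal.span {c x'})

include hloc in
theorem exists_pow_mem (V : X.affineOpens) (g t : Γ(X, V.1))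
    (ht : ∀ (x : X) (hx : x ∈ V.1), x ∈ X.basicOpen g → (X.presheaf.germ V.1 x hx).hom t ∈ Ideal.span {c x}) :
    ∃ n : ℕ, g ^ n * t ∈ idl c V.1 := by
  classical
  have hcov : ∀ x : (V.1 : Set X), ∃ (h : Γ(X, V.1)) (r : Γ(X, (X.affineBasicOpen h).1)), (x : X) ∈ X.basicOpen h ∧
      ∀ (x' : X) (hx' : x' ∈ X.basicOpen h),
        Ideal.span {(X.presheaf.germ (X.affineBasicOpen h).1 x' hx').hom r} = Ideal.span {c x'} := by
    intro x
    obtain ⟨O, r, hxO, hr⟩ := hloc x
    obtain ⟨h, hle, hxh⟩ := V.2.exists_basicOpen_le (⟨x, hxO⟩ : O.1) x.2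
    refine ⟨h, (X.presheaf.map (homOfLE hle).op).hom r, hxh, fun x' hx' => ?_⟩
    rw [← hr x' (hle hx')]
    exact congrArg (fun q => Ideal.span {q}) (X.presheaf.germ_res_apply (homOfLE hle) x' hx' r)
  choose h r hxh hr using hcov
  obtain ⟨T, hT⟩ := V.2.isCompact.elim_finite_subcover (fun x => (X.basicOpen (h x) : Set X))
    (fun x => (X.basicOpen (h x)).2) fun x hx => Set.mem_iUnion.2 ⟨⟨x, hx⟩, hxh _⟩
  have hn : ∀ x : (V.1 : Set X), ∃ n : ℕ, (X.presheaf.map (homOfLE (X.affineBasicOpen_le (h x)) : (X.affineBasicOpen (h x)).1 ⟶ V.1).op).hom (g ^ n * t) ∈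
      Ideal.span {r x} := by
    intro x
    let B : X.affineOpens := X.affineBasicOpen (h x)
    let ρ : Γ(X, V.1) →+* Γ(X, B.1) := (X.presheaf.map (homOfLE (X.basicOpen_le (h x)) : B.1 ⟶ V.1).op).hom
    have hρ : ∀ (p : X) (hp : p ∈ B.1) (a : Γ(X, V.1)),
        (X.presheaf.germ B.1 p hp).hom (ρ a) = (X.presheaf.germ V.1 p (X.basicOpen_le (h x) hp)).hom a :=
      fun p hp a => X.presheaf.germ_res_apply _ p hp a
    have hg : ρ g ∈ ((Ideal.span {r x}).colon {ρ t}).radical := by
      rw [Ideal.radical_eq_sInf, Ideal.mem_sInf]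
      rintro q ⟨hq, hqp⟩
      by_contra hgq
      haveI := hqp
      obtain ⟨p, hp, rfl⟩ := SDivLib.exists_point B q
      have hpg : p ∈ X.basicOpen g := by
        rw [Scheme.mem_basicOpen _ _ _ (X.basicOpen_le (h x) hp)]
        have := (DivDescLib.isUnit_germ_iff B hp (ρ g)).2 hgq
        rwa [hρ] at this
      have hmem : (X.presheaf.germ B.1 p hp).hom (ρ t) ∈
          (Ideal.span {r x}).map (X.presheaf.germ B.1 p hp).hom := by
        rw [Ideal.map_span, Set.image_singleton, hρ, hr x p hp]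
        exact ht p _ hpg
      obtain ⟨d, hd, hdt⟩ := (DivDescLib.germ_mem_iff B _ hp _).1 hmem
      exact hd (hq (Submodule.mem_colon_singleton.2 hdt))
    obtain ⟨n, hn⟩ := Ideal.mem_radical_iff.1 hg
    refine ⟨n, ?_⟩
    have := Submodule.mem_colon_singleton.1 hn
    change ρ (g ^ n * t) ∈ _
    rw [map_mul, map_pow]
    exact this
  choose n hn using hn
  refine ⟨T.sup n, (mem_idl c).2 fun p hp => ?_⟩
  obtain ⟨x, hxT, hpx⟩ := Set.mem_iUnion₂.1 (hT hp)
  have h1 := Ideal.mem_map_of_mem (X.presheaf.germ (X.affineBasicOpen (h x)).1 p hpx).hom (hn x)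
  rw [Ideal.map_span, Set.image_singleton, hr x p hpx] at h1
  erw [X.presheaf.germ_res_apply] at h1
  rw [show g ^ T.sup n * t = g ^ (T.sup n - n x) * (g ^ n x * t) by
    rw [← mul_assoc, ← pow_add, Nat.sub_add_cancel (Finset.le_sup hxT)], map_mul]
  exact Ideal.mul_mem_left _ _ h1

include hloc in
/-- The family is the family of equations of an ideal sheaf. -/
theorem exists_ideal [IsLocallyNoetherian X] (hc : ∀ x, c x ∈ nonZeroDivisors (X.presheaf.stalk x)) :
    ∃ J : X.IdealSheafData, BlowUp.IsEffCartierIdeal J ∧ ∀ x, IntMult.stalkIdeal J x = Ideal.span {c x} := by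
  let J : X.IdealSheafData :=
    { ideal := fun V => idl c V.1
      map_ideal_basicOpen := fun V g => by
        refine le_antisymm (Ideal.map_le_iff_le_comap.2 fun t ht => (mem_idl c).2 fun x hx => ?_) fun t ht => ?_
        · erw [X.presheaf.germ_res_apply]
          exact (mem_idl c).1 ht x _
        letI := V.2.isLocalization_basicOpen g
        obtain ⟨⟨t', ⟨_, m, rfl⟩⟩, e⟩ := IsLocalization.surj (Submonoid.powers g) t
        dsimp only at e
        have hdat : ∀ (x : X) (hx : x ∈ V.1), x ∈ X.basicOpen g →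
            (X.presheaf.germ V.1 x hx).hom t' ∈ Ideal.span {c x} := by
          intro x hx hxg
          have h1 : t * algebraMap Γ(X, V.1) Γ(X, X.basicOpen g) (g ^ m) ∈ idl c (X.basicOpen g) :=
            Ideal.mul_mem_right _ _ ht
          rw [e] at h1
          have h2 := (mem_idl c).1 h1 x hxg
          erw [X.presheaf.germ_res_apply] at h2
          exact h2
        obtain ⟨n, hn⟩ := exists_pow_mem c hloc V g t' hdat
        have hmem := Ideal.mem_map_of_mem (algebraMap Γ(X, V.1) Γ(X, X.basicOpen g)) hn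
        rw [map_mul, ← e, mul_comm t, ← mul_assoc, ← map_mul] at hmem
        exact ((Ideal.map (algebraMap Γ(X, V.1) Γ(X, X.basicOpen g)) (idl c V.1)).unit_mul_mem_iff_mem
          (IsLocalization.map_units _ (⟨_, mul_mem (pow_mem (Submonoid.mem_powers g) n)
            (pow_mem (Submonoid.mem_powers g) m)⟩ : Submonoid.powers g))).1 hmem }
  have hst : ∀ x, IntMult.stalkIdeal J x = Ideal.span {c x} := by
    intro x
    obtain ⟨O, r, hxO, hr⟩ := hloc x
    rw [SDivLib.stalkIdeal_eq J O hxO, show J.ideal O = Ideal.span {r} from ?_, Ideal.map_span, Set.image_singleton,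
      hr x hxO]
    refine le_antisymm (fun t ht => DivDescLib.mem_of_germ O _ t fun p hp => ?_)
      ((Ideal.span_singleton_le_iff_mem _).2 ((mem_idl c).2 fun p hp => ?_))
    · rw [Ideal.map_span, Set.image_singleton, hr p hp]
      exact (mem_idl c).1 ht p hp
    · rw [← hr p hp]
      exact Ideal.mem_span_singleton_self _
  refine ⟨J, EffCartLib.isEffCartier_of_stalk J fun x _ U hx => ⟨c x, hc x, ?_⟩, hst⟩
  rw [← SDivLib.stalkIdeal_eq J U hx, hst x]

end Div21LineLib

end
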