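import Groth.Agent.DivDescLib.Apps

/-!
# The descent criterion without surjectivity
-/

set_option autoImplicit false
set_option backward.isDefEq.respectTransparency.types false

universe u

open CategoryTheory CategoryTheory.Limits AlgebraicGeometry TopologicalSpace IsLocalRing

noncomputable section

namespace Div21LineLib

open DivDescLib

variable {X Y : Scheme.{u}} (f : X ⟶ Y)

/-- Over a normal base, a divisor trivial on maximal fibres descends to the local rings of depth at most one when the
fibres over points of codimension one are integral or empty. -/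
theorem locAt_of_integral [IsLocallyNoetherian X] [IsLocallyNoetherian Y] [Flat f] (hY : Pi1.IsNormalScheme Y)
    (hfib : ∀ y : ↥Y, ringKrullDim ↑(Y.presheaf.stalk y) = 1 → ∀ _ : ↥(f.fiber y), IsIntegral (f.fiber y))
    {J : X.IdealSheafData} (hJ : BlowUp.IsEffCartierIdeal J)
    (h0 : ∀ η : ↥Y, (∀ z : ↥Y, z ⤳ η → z = η) → ∀ x : X, f x = η → IntMult.stalkIdeal J x = ⊤)
    (y₀ : Y) (hy₀ : LocCoh.depth (Y.presheaf.stalk y₀) (Y.presheaf.stalk y₀) ≤ 1) : LocAt f J y₀ := by
  have hemb : ∀ y : ↥Y, ringKrullDim ↑(Y.presheaf.stalk y) = 1 → ∀ z z' : ↥(f.fiber y),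
      IsAssociatedPrime (IsLocalRing.maximalIdeal ↑((f.fiber y).presheaf.stalk z)) ↑((f.fiber y).presheaf.stalk z) →
      IsAssociatedPrime (IsLocalRing.maximalIdeal ↑((f.fiber y).presheaf.stalk z')) ↑((f.fiber y).presheaf.stalk z') →
      z' ⤳ z → z' = z := fun y hy z z' h _ h' => by
    haveI := hfib y hy z
    haveI : IsNoetherianRing ((f.fiber y).presheaf.stalk z) :=
      isNoetherianRing_of_surjective _ _ _ (Groth.Agent.S9501.result f y z).1
    exact emb_of_isIntegral z z' h h'
  refine locAt_of_normal f hJ hY hemb (fun η hη => comap_fiberι_eq_top f (h0 η hη)) ?_ y₀ hy₀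
  intro y hy π hπ
  by_cases hne : ∀ x : X, f x ≠ y
  · exact ⟨0, fun x hx => absurd hx (hne x)⟩
  push Not at hne
  obtain ⟨w, hw⟩ := hne
  obtain ⟨z₁, -⟩ : w ∈ Set.range (f.fiberι y) := by rw [f.range_fiberι]; exact hw
  haveI := hfib y hy z₁
  let ξ := genericPoint (f.fiber y)
  set x₀ := f.fiberι y ξ with hx₀
  have hx₀y : f x₀ = y := by
    have h' : x₀ ∈ Set.range (f.fiberι y) := ⟨ξ, rfl⟩
    rwa [f.range_fiberι] at h'
  have huniq : ∀ x : X, f x = y → (∀ p : X, f p = y → p ⤳ x → p = x) → x = x₀ := by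
    intro x hx hmax
    obtain ⟨z, rfl⟩ : x ∈ Set.range (f.fiberι y) := by rw [f.range_fiberι]; exact hx
    exact (hmax x₀ hx₀y ((genericPoint_specializes z).map (f.fiberι y).continuous)).symm
  set πx := ψ f (specializes_of_eq hx₀y) π
  have hm : maximalIdeal (X.presheaf.stalk x₀) = Ideal.span {πx} := by
    have key : ∀ (y' : Y) (hy' : y' = y) (z : f.fiber y'), f.fiberι y' z = x₀ →
        maximalIdeal ((f.fiber y').presheaf.stalk z) = ⊥ → maximalIdeal (X.presheaf.stalk x₀) = Ideal.span {πx} := by
      rintro y' rfl z hzx hbot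
      have key2 : ∀ p (hp : f.fiberι y' z = p), maximalIdeal (X.presheaf.stalk p) =
          (maximalIdeal (Y.presheaf.stalk (f p))).map (f.stalkMap p).hom := by
        rintro p rfl
        obtain ⟨hsurj, hker⟩ := Groth.Agent.S9501.result f y' z
        refine le_antisymm (fun b hb => hker.le ?_) (IsLocalRing.map_maximalIdeal_le _)
        rw [RingHom.mem_ker, ← Submodule.mem_bot (R := (f.fiber y').presheaf.stalk z), ← hbot]
        exact (mem_maximalIdeal _).2 fun hu => (mem_maximalIdeal _).1 hb (isUnit_of_map_unit _ _ hu)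
      rw [key2 x₀ hzx]
      have e : maximalIdeal (Y.presheaf.stalk (f x₀)) =
          Ideal.span {(Y.presheaf.stalkSpecializes (specializes_of_eq hx₀y)).hom π} := by
        have : ∀ (w : Y) (hw : w = y'), maximalIdeal (Y.presheaf.stalk w) =
            Ideal.span {(Y.presheaf.stalkSpecializes (specializes_of_eq hw)).hom π} := by
          rintro w rfl
          rw [TopCat.Presheaf.stalkSpecializes_refl]
          exact hπ
        exact this _ hx₀y
      rw [e, Ideal.map_span, Set.image_singleton]
      rfl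
    refine key y rfl ξ rfl ?_
    haveI : IsDomain ((f.fiber y).presheaf.stalk ξ) := inferInstance
    exact IsLocalRing.isField_iff_maximalIdeal_eq.1 (Field.toIsField (f.fiber y).functionField)
  obtain ⟨t, ht, hJt⟩ := exists_gen hJ x₀
  obtain ⟨n, u, hu, rfl⟩ := exists_pow hm (nonZeroDivisors.ne_zero ht)
  refine ⟨n, fun x hx hmax => ?_⟩
  obtain rfl := huniq x hx hmax
  rw [hJt, Ideal.span_singleton_mul_left_unit hu]

end Div21LineLib

end
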