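import Groth.Agent.Div21LineLib.Rat
import Groth.Agent.SquareLib.DescGen

/-!
# Descent of invertible modules trivial on the maximal fibres
-/

set_option autoImplicit false
set_option backward.isDefEq.respectTransparency.types false

universe u

open CategoryTheory CategoryTheory.Limits AlgebraicGeometry TopologicalSpace IsLocalRing
open KFlatLib (pb puSec)
open AmpleLib (res GenAt GenOn)

noncomputable section

namespace Div21LineLib

open DivDescLib

variable {X Y : Scheme.{u}} (f : X ⟶ Y) {L : X.Modules} {Ω : X.Opens} (E : Γ(L, Ω))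
  (hΩ : ∀ p : X, Mx (f p) → p ∈ Ω)

/-- Near the point there is a generator which is the frame times the ratio of two functions of the base. -/
def GenTw (W : Y.Opens) (a b : Γ(Y, W)) (x : X) : Prop :=
  ∃ (O : X.Opens) (_ : x ∈ O) (hOW : O ≤ f ⁻¹ᵁ W) (σ : Γ(L, O)), GenOn L σ ∧
    ∀ p (hp : p ∈ O) (hmx : Mx (f p)),
      φW f W p (hOW hp) b • L.presheaf.germ O p hp σ = φW f W p (hOW hp) a • L.presheaf.germ Ω p (hΩ p hmx) E

theorem isOpen_genTw (W : Y.Opens) (a b : Γ(Y, W)) : IsOpen {x | GenTw f E hΩ W a b x} := by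
  rw [isOpen_iff_forall_mem_open]
  rintro x ⟨O, hxO, hOW, σ, hσ, h⟩
  exact ⟨O, fun z hz => ⟨O, hz, hOW, σ, hσ, h⟩, O.2, hxO⟩

theorem GenTw.mem {W : Y.Opens} {a b : Γ(Y, W)} {x : X} (h : GenTw f E hΩ W a b x) : f x ∈ W := by
  obtain ⟨O, hxO, hOW, -⟩ := h
  exact hOW hxO

variable [IsLocallyNoetherian X] [IsLocallyNoetherian Y] [Flat f] (hY : Pi1.IsNormalScheme Y) (hE : GenOn L E)

theorem smul_frame_inj {p : X} (hmx : Mx (f p)) (hE : GenOn L E) {c c' : X.presheaf.stalk p}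
    (h : c • L.presheaf.germ Ω p (hΩ p hmx) E = c' • L.presheaf.germ Ω p (hΩ p hmx) E) : c = c' :=
  (hE.genAt (hΩ p hmx)).1 h

include hY in
theorem exists_genTw_pair (hE : GenOn L E) (hfib : ∀ y : ↥Y, ringKrullDim ↑(Y.presheaf.stalk y) = 1 → IsIntegral (f.fiber y))
    (hL : PicF.IsInvertible L) (W : Y.affineOpens) [IsDomain Γ(Y, W.1)] {x x' : X} (hx : f x ∈ W.1) (e : f x' = f x) :
    ∃ a b : Γ(Y, W.1), a ≠ 0 ∧ b ≠ 0 ∧ GenTw f E hΩ W.1 a b x ∧ GenTw f E hΩ W.1 a b x' := by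
  obtain ⟨V, hV, hxV, hle⟩ := exists_isAffineOpen_mem_and_subset (x := x) (U := f ⁻¹ᵁ W.1) hx
  obtain ⟨V', hV', hxV', hle'⟩ := exists_isAffineOpen_mem_and_subset (x := x') (U := f ⁻¹ᵁ W.1)
    (show f x' ∈ W.1 by rw [e]; exact hx)
  have hUc : IsCompact ((V ⊔ V' : X.Opens) : Set X) := hV.isCompact.union hV'.isCompact
  have hUW : V ⊔ V' ≤ f ⁻¹ᵁ W.1 := sup_le hle hle'
  obtain ⟨a, ha, σ, hσ⟩ := exists_rat f hY hL W E hΩ (V ⊔ V') hUc hUW
  obtain ⟨k, hk, hkξ⟩ := exists_eqn f hY hfib hL W E hE hΩ (V ⊔ V') hUc hUW a ha σ hσ x (Or.inl hxV)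
  have main : ∀ z (hz : z ∈ V ⊔ V'), f z = f x → GenTw f E hΩ W.1 a k z := by
    intro z hz ez
    obtain ⟨ξ, hξ, hσξ⟩ := hkξ z hz ez
    obtain ⟨T, hzT, σ₁, rfl⟩ := L.presheaf.exists_germ_eq ξ
    obtain ⟨T', hT', hzT', hgen⟩ := exists_genOn_nbhd hL (σ := σ₁) (hx := hzT) hξ
    let T₂ := T' ⊓ (V ⊔ V')
    have hT₂W : T₂ ≤ f ⁻¹ᵁ W.1 := inf_le_right.trans hUW
    let τ : Γ(L, T₂) := (f.appLE W.1 T₂ hT₂W).hom k • res L (inf_le_left.trans hT') σ₁
    have hτ : ∀ p (hp : p ∈ T₂), L.presheaf.germ T₂ p hp τ =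
        φW f W.1 p (hT₂W hp) k • L.presheaf.germ T p (hT' hp.1) σ₁ := fun p hp => by
      rw [AmpleLib.germ_smul, AmpleLib.germ_res]
      exact congrArg (fun q => q • _) (φW_germ f W.1 hT₂W hp k)
    have h1 : L.presheaf.germ T₂ z ⟨hzT', hz⟩ τ = L.presheaf.germ T₂ z ⟨hzT', hz⟩ (res L inf_le_right σ) := by
      rw [hτ, AmpleLib.germ_res, hσξ]
    obtain ⟨Q, hzQ, i₁, i₂, eQ⟩ := TopCat.Presheaf.germ_eq L.presheaf z _ _ _ _ h1
    refine ⟨Q, hzQ, i₁.le.trans hT₂W, res L (i₁.le.trans inf_le_left) (res L hT' σ₁), hgen.res _, fun p hp hmx => ?_⟩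
    have e1 := congrArg (L.presheaf.germ Q p hp) eQ
    rw [TopCat.Presheaf.germ_res_apply, TopCat.Presheaf.germ_res_apply, hτ, AmpleLib.germ_res, hσ p _ hmx] at e1
    rw [AmpleLib.germ_res, AmpleLib.germ_res]
    exact e1
  exact ⟨a, k, ha, hk, main x (Or.inl hxV) rfl, main x' (Or.inr hxV') e⟩

include hY hE in
theorem genTw_ratio (W : Y.affineOpens) [IsDomain Γ(Y, W.1)] {a b a' b' : Γ(Y, W.1)}
    (ha' : a' ≠ 0) (hb : b ≠ 0) {x : X} (hx : f x ∈ W.1)
    (h : GenTw f E hΩ W.1 a b x) (h' : GenTw f E hΩ W.1 a' b' x) :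
    ∃ d : (Y.presheaf.stalk (f x))ˣ, (Y.presheaf.germ W.1 (f x) hx).hom (a' * b) =
      ↑d * (Y.presheaf.germ W.1 (f x) hx).hom (a * b') := by
  obtain ⟨O, hxO, hOW, σ, hσ, hrel⟩ := h
  obtain ⟨O', hxO', hOW', σ', hσ', hrel'⟩ := h'
  have hxI : x ∈ O ⊓ O' := ⟨hxO, hxO'⟩
  have hIW : O ⊓ O' ≤ f ⁻¹ᵁ W.1 := inf_le_left.trans hOW
  obtain ⟨c, hc⟩ := (hσ (O ⊓ O') inf_le_left).2 (res L inf_le_right σ')
  dsimp only at hc
  have hcu : IsUnit ((X.presheaf.germ (O ⊓ O') x hxI).hom c) := by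
    have h1 : GenAt L (c • res L inf_le_left σ) hxI := by
      rw [hc]; exact (AmpleLib.genAt_res _ σ' hxI).2 (hσ'.genAt hxO')
    exact (Scheme.mem_basicOpen _ _ _ hxI).1
      ((AmpleLib.genAt_smul_iff c _ hxI ((AmpleLib.genAt_res (inf_le_left : O ⊓ O' ≤ O) σ hxI).2 (hσ.genAt hxO))).1 h1)
  have key : (f.appLE W.1 (O ⊓ O') hIW).hom (a' * b) = c * (f.appLE W.1 (O ⊓ O') hIW).hom (a * b') := by
    refine fun_ext f hY _ _ fun p hp hmx => smul_frame_inj f E hΩ hmx hE ?_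
    rw [φW_germ, map_mul (X.presheaf.germ (O ⊓ O') p hp).hom, φW_germ]
    have h1 := hrel p hp.1 hmx
    have h2 := hrel' p hp.2 hmx
    have h3 := congrArg (L.presheaf.germ (O ⊓ O') p hp) hc
    rw [AmpleLib.germ_smul, AmpleLib.germ_res, AmpleLib.germ_res] at h3
    rw [← h3] at h2
    rw [map_mul, map_mul]
    refine (show φW f W.1 p (hIW hp) a' * φW f W.1 p (hIW hp) b = φW f W.1 p (hIW hp) b * φW f W.1 p (hIW hp) a' from
      mul_comm _ _) ▸ ?_
    rw [mul_smul, ← h2, smul_smul, smul_smul]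
    rw [show ∀ t : X.presheaf.stalk p, φW f W.1 p (hIW hp) b * φW f W.1 p (hIW hp) b' * t =
      (t * φW f W.1 p (hIW hp) b') * φW f W.1 p (hIW hp) b from fun t => by ring, mul_smul, h1, smul_smul]
    congr 1
    ring
  have hkx := congrArg (X.presheaf.germ (O ⊓ O') x hxI).hom key
  rw [map_mul (X.presheaf.germ (O ⊓ O') x hxI).hom, φW_germ, φW_germ] at hkx
  haveI := (hY (f x)).1
  set P := (Y.presheaf.germ W.1 (f x) hx).hom (a' * b) with hP
  set Q := (Y.presheaf.germ W.1 (f x) hx).hom (a * b') with hQ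
  have hkx' : (f.stalkMap x).hom P = (X.presheaf.germ (O ⊓ O') x hxI).hom c * (f.stalkMap x).hom Q := hkx
  have hsp : Ideal.span {P} = Ideal.span {Q} := by
    have h1 : (Ideal.span {P}).map (f.stalkMap x).hom = (Ideal.span {Q}).map (f.stalkMap x).hom := by
      rw [Ideal.map_span, Ideal.map_span, Set.image_singleton, Set.image_singleton, hkx',
        Ideal.span_singleton_mul_left_unit hcu]
    have h2 := congrArg (Ideal.comap (f.stalkMap x).hom) h1
    rwa [comap_map_self _ (flat_stalkMap f x), comap_map_self _ (flat_stalkMap f x)] at h2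
  have hP0 : P ∈ nonZeroDivisors (Y.presheaf.stalk (f x)) := mem_nonZeroDivisors_of_ne_zero fun h0 =>
    mul_ne_zero ha' hb (germ_injective W hx (h0.trans (map_zero _).symm))
  obtain ⟨v, hv⟩ := exists_unit_of_span hP0 hsp
  exact ⟨v, by rw [← hv, mul_comm]⟩

include hY in
theorem genTw_transfer (W : Y.affineOpens) [IsDomain Γ(Y, W.1)] {a b a' b' : Γ(Y, W.1)} (hb : b ≠ 0) {x : X}
    (hx : f x ∈ W.1) (h : GenTw f E hΩ W.1 a b x) (d : (Y.presheaf.stalk (f x))ˣ)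
    (hd : (Y.presheaf.germ W.1 (f x) hx).hom (a' * b) = ↑d * (Y.presheaf.germ W.1 (f x) hx).hom (a * b')) :
    GenTw f E hΩ W.1 a' b' x := by
  obtain ⟨O, hxO, hOW, σ, hσ, hrel⟩ := h
  obtain ⟨q, s, hs, hdq⟩ := exists_germ_eq W hx (d : Y.presheaf.stalk (f x))
  have hsu := (isUnit_germ_iff W hx s).2 hs
  have hs0 : s ≠ 0 := by
    rintro rfl
    exact hs (zero_mem _)
  have hqab : s * (a' * b) = q * (a * b') := germ_injective W hx (by
    rw [map_mul, map_mul _ q, hd, ← hdq]; ring)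
  have hqu : IsUnit ((Y.presheaf.germ W.1 (f x) hx).hom q) := hdq ▸ d.isUnit.mul hsu
  obtain ⟨U, hU, r, hr⟩ := X.presheaf.exists_germ_eq ((f.stalkMap x).hom (d : Y.presheaf.stalk (f x)))
  let T := U ⊓ O
  have hTW : T ≤ f ⁻¹ᵁ W.1 := inf_le_right.trans hOW
  let r' : Γ(X, T) := (X.presheaf.map (homOfLE (inf_le_left : T ≤ U)).op).hom r
  have hgr : ∀ p (hp : p ∈ T), (X.presheaf.germ T p hp).hom r' = (X.presheaf.germ U p hp.1).hom r :=
    fun p hp => X.presheaf.germ_res_apply _ p hp r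
  have hr' : (X.presheaf.germ T x ⟨hU, hxO⟩).hom r' = (f.stalkMap x).hom (d : Y.presheaf.stalk (f x)) :=
    (hgr x ⟨hU, hxO⟩).trans hr
  have h1 : (X.presheaf.germ T x ⟨hU, hxO⟩).hom (r' * (f.appLE W.1 T hTW).hom s) =
      (X.presheaf.germ T x ⟨hU, hxO⟩).hom ((f.appLE W.1 T hTW).hom q) := by
    rw [map_mul (X.presheaf.germ T x ⟨hU, hxO⟩).hom, φW_germ, φW_germ, hr']
    exact ((map_mul (f.stalkMap x).hom _ _).symm.trans (congrArg (f.stalkMap x).hom hdq))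
  obtain ⟨Q, hxQ, i₁, i₂, eQ⟩ := X.presheaf.germ_eq x _ _ _ _ h1
  let R := X.basicOpen r' ⊓ Q
  have hRT : R ≤ T := inf_le_left.trans (X.basicOpen_le _)
  have hRO : R ≤ O := hRT.trans inf_le_right
  refine ⟨R, ⟨?_, hxQ⟩, hRT.trans hTW, (X.presheaf.map (homOfLE hRT).op).hom r' • res L hRO σ,
    TwistLib.genOn_of_genAt fun p hp => ?_, fun p hp hmx => ?_⟩
  · change x ∈ X.basicOpen r'
    rw [Scheme.mem_basicOpen _ _ _ (show x ∈ T from ⟨hU, hxO⟩)]
    change IsUnit ((X.presheaf.germ T x _).hom r')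
    rw [hr']
    exact d.isUnit.map (f.stalkMap x).hom
  · refine (AmpleLib.genAt_smul_iff _ _ hp ((AmpleLib.genAt_res hRO σ hp).2 (hσ.genAt (hRO hp)))).2 ?_
    rw [Scheme.mem_basicOpen _ _ _ hp]
    change IsUnit ((X.presheaf.germ R p hp).hom _)
    erw [TopCat.Presheaf.germ_res_apply]
    exact (Scheme.mem_basicOpen _ _ _ (hRT hp)).1 hp.1
  · have e1 := congrArg (X.presheaf.germ Q p hp.2).hom eQ
    erw [TopCat.Presheaf.germ_res_apply, TopCat.Presheaf.germ_res_apply] at e1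
    rw [map_mul (X.presheaf.germ T p (hRT hp)).hom, φW_germ, φW_germ] at e1
    rw [AmpleLib.germ_smul, AmpleLib.germ_res]
    erw [TopCat.Presheaf.germ_res_apply]
    refine ((isUnit_φW f hY W (hTW (hRT hp)) hmx hs0).mul
      (isUnit_φW f hY W (hTW (hRT hp)) hmx hb)).smul_left_cancel.1 ?_
    have h2 := congrArg (φW f W.1 p (hTW (hRT hp))) hqab
    simp only [map_mul] at h2
    rw [smul_smul, smul_smul, smul_smul, show φW f W.1 p (hTW (hRT hp)) s * φW f W.1 p (hTW (hRT hp)) b *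
      φW f W.1 p (hTW (hRT hp)) b' * (X.presheaf.germ T p (hRT hp)).hom r' =
        (φW f W.1 p (hTW (hRT hp)) q * φW f W.1 p (hTW (hRT hp)) b') * φW f W.1 p (hTW (hRT hp)) b by
      rw [← e1]; ring, mul_smul, hrel p _ hmx, smul_smul, show φW f W.1 p (hTW (hRT hp)) q * φW f W.1 p (hTW (hRT hp)) b' *
      φW f W.1 p (hTW (hRT hp)) a = φW f W.1 p (hTW (hRT hp)) s * φW f W.1 p (hTW (hRT hp)) b *
        φW f W.1 p (hTW (hRT hp)) a' by
      linear_combination -h2]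

include hY in
theorem exists_local (hE : GenOn L E) [Surjective f] (hf : QuasiCompact f ∨ IsOpenMap f)
    (hfib : ∀ y : ↥Y, ringKrullDim ↑(Y.presheaf.stalk y) = 1 → IsIntegral (f.fiber y))
    (hL : PicF.IsInvertible L) (y : Y) :
    ∃ (W : Y.affineOpens) (_ : IsDomain Γ(Y, W.1)) (a b : Γ(Y, W.1)) (V : Y.Opens) (hVW : V ≤ W.1) (σ : Γ(L, f ⁻¹ᵁ V)),
      a ≠ 0 ∧ b ≠ 0 ∧ y ∈ V ∧ GenOn L σ ∧ ∀ p (hp : f p ∈ V) (hmx : Mx (f p)),
        φW f W.1 p (hVW hp) b • L.presheaf.germ (f ⁻¹ᵁ V) p hp σ =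
          φW f W.1 p (hVW hp) a • L.presheaf.germ Ω p (hΩ p hmx) E := by
  obtain ⟨W, hyW, -, hdom⟩ := exists_good hY y ⊤ trivial
  obtain ⟨x₀, hx₀⟩ := f.surjective y
  have hx₀W : f x₀ ∈ W.1 := by rw [hx₀]; exact hyW
  obtain ⟨a, b, ha, hb, h₀, -⟩ := exists_genTw_pair f E hΩ hY hE hfib hL W hx₀W (rfl : f x₀ = f x₀)
  have sat : ∀ z z' : X, f z' = f z → GenTw f E hΩ W.1 a b z → GenTw f E hΩ W.1 a b z' := by
    intro z z' e hz
    have hzW := hz.mem f E hΩ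
    obtain ⟨a', b', ha', hb', hpz, hpz'⟩ := exists_genTw_pair f E hΩ hY hE hfib hL W hzW e
    obtain ⟨d, hd⟩ := genTw_ratio f E hΩ hY hE W ha hb' hzW hpz hz
    have tr : ∀ (w : Y) (hw : w ∈ W.1), w = f z → ∃ d : (Y.presheaf.stalk w)ˣ,
        (Y.presheaf.germ W.1 w hw).hom (a * b') = ↑d * (Y.presheaf.germ W.1 w hw).hom (a' * b) := by
      rintro w hw rfl; exact ⟨d, hd⟩
    obtain ⟨d', hd'⟩ := tr (f z') (e ▸ hzW) e
    exact genTw_transfer f E hΩ hY W hb' (e ▸ hzW) hpz' d' hd'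
  let G : Set X := {x | GenTw f E hΩ W.1 a b x}
  let S : Set Y := f '' G
  have hpre : f ⁻¹' S = G := by
    refine Set.Subset.antisymm (fun z hz => ?_) (fun z hz => ⟨z, hz, rfl⟩)
    obtain ⟨z₀, hz₀, e⟩ := hz
    exact sat z₀ z e.symm hz₀
  have hS : IsOpen S := by
    rcases hf with hf | hf
    · rw [← (Flat.isQuotientMap_of_surjective f).isOpen_preimage, hpre]
      exact isOpen_genTw f E hΩ W.1 a b
    · exact hf _ (isOpen_genTw f E hΩ W.1 a b)
  have hSW : (⟨S, hS⟩ : Y.Opens) ≤ W.1 := by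
    rintro _ ⟨z, hz, rfl⟩
    exact hz.mem f E hΩ
  have hloc : ∀ z : ↥G, _ := fun z => z.2
  choose O hzO hOW σ hσ hrel using hloc
  let V : Y.Opens := ⟨S, hS⟩
  let O' : ↥G → X.Opens := fun z => O z ⊓ f ⁻¹ᵁ V
  have hrel' : ∀ z p (hp : p ∈ O' z) (hmx : Mx (f p)),
      φW f W.1 p (hSW hp.2) b • L.presheaf.germ (O' z) p hp (res L inf_le_left (σ z)) =
        φW f W.1 p (hSW hp.2) a • L.presheaf.germ Ω p (hΩ p hmx) E := fun z p hp hmx => by
    rw [AmpleLib.germ_res]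
    exact hrel z p hp.1 hmx
  obtain ⟨τ, hτ⟩ := ModGlueLib.exists_glue (M := L) (V := f ⁻¹ᵁ V) O' (fun z => inf_le_right)
    (fun p hp => ⟨⟨p, hpre.le hp⟩, hzO _, hp⟩) (fun z => res L inf_le_left (σ z)) fun k l => by
    refine sec_ext f hY hL _ _ fun p hp hmx => ?_
    change L.presheaf.germ _ p hp (res L inf_le_left _) = L.presheaf.germ _ p hp (res L inf_le_right _)
    rw [AmpleLib.germ_res, AmpleLib.germ_res, AmpleLib.germ_res, AmpleLib.germ_res]
    refine (isUnit_φW f hY W (hSW hp.1.2) hmx hb).smul_left_cancel.1 ?_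
    exact (hrel k p hp.1.1 hmx).trans (hrel l p hp.2.1 hmx).symm
  refine ⟨W, hdom, a, b, V, hSW, τ, ha, hb, ⟨x₀, h₀, hx₀⟩, TwistLib.genOn_of_genAt fun p hp => ?_, fun p hp hmx => ?_⟩
  all_goals
    have hpO : p ∈ O' ⟨p, hpre.le hp⟩ := ⟨hzO _, hp⟩
  · refine (AmpleLib.genAt_res (inf_le_right : O' ⟨p, hpre.le hp⟩ ≤ _) τ hpO).1 ?_
    rw [show res L _ τ = _ from hτ ⟨p, hpre.le hp⟩]
    exact ((hσ _).res inf_le_left).genAt hpO
  · have h1 := hrel' ⟨p, hpre.le hp⟩ p hpO hmx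
    rw [← hτ ⟨p, hpre.le hp⟩] at h1
    erw [AmpleLib.germ_res] at h1
    exact h1

include hY hΩ in
theorem main [Surjective f] (hf : QuasiCompact f ∨ IsOpenMap f)
    (hfib : ∀ y : ↥Y, ringKrullDim ↑(Y.presheaf.stalk y) = 1 → IsIntegral (f.fiber y))
    (hL : PicF.IsInvertible L) (hE : GenOn L E) :
    ∃ M : Y.Modules, PicF.IsInvertible M ∧ Nonempty (pb f M ≅ L) := by
  choose W hdom a b V hVW τ ha hb hyV hτ hrel using exists_local f E hΩ hY hE hf hfib hL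
  refine SquareLib.exists_descent_of_gens V hyV τ hτ fun j i => ?_
  have hloc : ∀ q : (V j ⊓ V i : Y.Opens), ∃ (N : Y.Opens) (hN : N ≤ V j ⊓ V i) (_ : q.1 ∈ N) (r : Γ(Y, N)),
      (f.app N r) • res L (f.preimage_mono (hN.trans inf_le_right)) (τ i) =
        res L (f.preimage_mono (hN.trans inf_le_left)) (τ j) := by
    intro q
    obtain ⟨W', hqW', hW', hdom'⟩ := exists_good hY q.1 (V j ⊓ V i) q.2
    obtain ⟨x, hx⟩ := f.surjective q.1
    have hxW' : f x ∈ W'.1 := by rw [hx]; exact hqW'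
    have hW'W : ∀ k, (k = j ∨ k = i) → W'.1 ≤ (W k).1 := by
      rintro k (rfl | rfl)
      · exact (hW'.trans inf_le_left).trans (hVW _)
      · exact (hW'.trans inf_le_right).trans (hVW _)
    have hres : ∀ (k : Y) (hk : W'.1 ≤ (W k).1) (c : Γ(Y, (W k).1)) (p : X) (hp : f p ∈ W'.1),
        φW f W'.1 p hp ((Y.presheaf.map (homOfLE hk).op).hom c) = φW f (W k).1 p (hk hp) c := fun k hk c p hp =>
      congrArg (f.stalkMap p).hom (TopCat.Presheaf.germ_res_apply Y.presheaf (homOfLE hk) _ hp c)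
    have hne : ∀ (k : Y) (hk : W'.1 ≤ (W k).1) (c : Γ(Y, (W k).1)), c ≠ 0 →
        (Y.presheaf.map (homOfLE hk).op).hom c ≠ 0 := fun k hk c hc h0 => by
      haveI := hdom k
      refine hc (germ_injective (W k) (hk hqW') ?_)
      rw [map_zero, ← map_zero (Y.presheaf.germ W'.1 q.1 hqW').hom, ← h0]
      exact (TopCat.Presheaf.germ_res_apply Y.presheaf (homOfLE hk) _ hqW' c).symm
    have hj := hW'W j (Or.inl rfl)
    have hi := hW'W i (Or.inr rfl)
    have hgt : ∀ (k : Y) (hk : W'.1 ≤ (W k).1) (hk' : W'.1 ≤ V k), GenTw f E hΩ W'.1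
        ((Y.presheaf.map (homOfLE hk).op).hom (a k)) ((Y.presheaf.map (homOfLE hk).op).hom (b k)) x :=
      fun k hk hk' => ⟨f ⁻¹ᵁ W'.1, hxW', le_rfl, res L (f.preimage_mono hk') (τ k), (hτ k).res _, fun p hp hmx => by
        rw [hres k hk _ p hp, hres k hk _ p hp, AmpleLib.germ_res]
        exact hrel k p (hk' hp) hmx⟩
    obtain ⟨d, hd⟩ := genTw_ratio f E hΩ hY hE W' (hne j hj _ (ha j)) (hne i hi _ (hb i)) hxW'
      (hgt i hi (hW'.trans inf_le_right)) (hgt j hj (hW'.trans inf_le_left))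
    obtain ⟨U, hU, r, hr⟩ := Y.presheaf.exists_germ_eq (d : Y.presheaf.stalk (f x))
    let T := U ⊓ W'.1
    let ρ : Γ(Y, W'.1) →+* Γ(Y, T) := (Y.presheaf.map (homOfLE (inf_le_right : T ≤ W'.1)).op).hom
    let r' : Γ(Y, T) := (Y.presheaf.map (homOfLE (inf_le_left : T ≤ U)).op).hom r
    let aj' := (Y.presheaf.map (homOfLE hj).op).hom (a j)
    let bj' := (Y.presheaf.map (homOfLE hj).op).hom (b j)
    let ai' := (Y.presheaf.map (homOfLE hi).op).hom (a i)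
    let bi' := (Y.presheaf.map (homOfLE hi).op).hom (b i)
    have hρ : ∀ (z : Y) (hz : z ∈ T) c, (Y.presheaf.germ T z hz).hom (ρ c) = (Y.presheaf.germ W'.1 z hz.2).hom c :=
      fun z hz c => TopCat.Presheaf.germ_res_apply _ _ _ _ c
    have h1 : (Y.presheaf.germ T (f x) ⟨hU, hxW'⟩).hom (ρ (aj' * bi')) =
        (Y.presheaf.germ T (f x) ⟨hU, hxW'⟩).hom (r' * ρ (ai' * bj')) := by
      rw [map_mul (Y.presheaf.germ T (f x) ⟨hU, hxW'⟩).hom r', hρ, hρ]
      erw [TopCat.Presheaf.germ_res_apply]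
      exact hd.trans (congrArg (fun t => t * _) hr.symm)
    obtain ⟨N, hxN, i₁, i₂, eN⟩ := Y.presheaf.germ_eq (f x) _ _ _ _ h1
    refine ⟨N, (i₁.le.trans inf_le_right).trans hW', hx ▸ hxN, (Y.presheaf.map i₁.op).hom r',
      sec_ext f hY hL _ _ fun p hp hmx => ?_⟩
    have hpW' : f p ∈ W'.1 := (i₁.le hp).2
    rw [AmpleLib.germ_smul, AmpleLib.germ_res, AmpleLib.germ_res]
    have hgr : (X.presheaf.germ (f ⁻¹ᵁ N) p hp).hom ((f.app N).hom ((Y.presheaf.map i₁.op).hom r')) =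
        (f.stalkMap p).hom ((Y.presheaf.germ T (f p) (i₁.le hp)).hom r') := by
      rw [← TopCat.Presheaf.germ_res_apply Y.presheaf i₁ (f p) hp r']
      exact (Scheme.Hom.germ_stalkMap_apply f N p hp _).symm
    haveI := hdom i
    haveI := hdom j
    refine (((isUnit_φW f hY (W i) (hi hpW') hmx (hb i))).mul
      (isUnit_φW f hY (W j) (hj hpW') hmx (hb j))).smul_left_cancel.1 ?_
    change _ • ((X.presheaf.germ (f ⁻¹ᵁ N) p hp).hom _ • _) = _
    rw [hgr]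
    have e1 := congrArg (Y.presheaf.germ N (f p) hp).hom eN
    erw [TopCat.Presheaf.germ_res_apply, TopCat.Presheaf.germ_res_apply] at e1
    erw [TopCat.Presheaf.germ_res_apply] at e1
    rw [map_mul (Y.presheaf.germ T (f p) (i₁.le hp)).hom r', hρ] at e1
    have e2 : φW f W'.1 p hpW' (aj' * bi') = (f.stalkMap p).hom ((Y.presheaf.germ T (f p) (i₁.le hp)).hom r') *
        φW f W'.1 p hpW' (ai' * bj') := (congrArg (f.stalkMap p).hom e1).trans (map_mul _ _ _)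
    rw [map_mul, map_mul, hres, hres, hres, hres] at e2
    set R := (f.stalkMap p).hom ((Y.presheaf.germ T (f p) (i₁.le hp)).hom r')
    have rj := hrel j p (hW' (i₁.le hp).2).1 hmx
    have ri := hrel i p (hW' (i₁.le hp).2).2 hmx
    rw [smul_smul, mul_smul (φW f (W i).1 p (hi hpW') (b i)) (φW f (W j).1 p (hj hpW') (b j)), rj, smul_smul,
      show φW f (W i).1 p (hi hpW') (b i) * φW f (W j).1 p (hj hpW') (b j) * R =
        (φW f (W j).1 p (hj hpW') (b j) * R) * φW f (W i).1 p (hi hpW') (b i) by ring, mul_smul, ri, smul_smul]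
    congr 1
    linear_combination -e2
  choose N hN hqN r hr using hloc
  obtain ⟨g, hg⟩ := ModGlueLib.exists_glue (M := Coh.structureModule Y) (V := V j ⊓ V i) N hN
    (fun z hz => ⟨⟨z, hz⟩, hqN _⟩) r fun k l => by
    refine AVThetaLib.app_injective_of_flat_surjective f (N k ⊓ N l) ((hτ i _
      (f.preimage_mono ((inf_le_left.trans (hN k)).trans inf_le_right))).1 ?_)
    have e1 := congrArg (res L (f.preimage_mono (inf_le_left : N k ⊓ N l ≤ N k))) (hr k)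
    have e2 := congrArg (res L (f.preimage_mono (inf_le_right : N k ⊓ N l ≤ N l))) (hr l)
    rw [AmpleLib.res_smul, AmpleLib.res_res, AmpleLib.res_res] at e1 e2
    have key : ∀ (O : Y.Opens) (h : N k ⊓ N l ≤ O) (c : Γ(Y, O)),
        f.app (N k ⊓ N l) ((Y.presheaf.map (homOfLE h).op).hom c) =
          X.presheaf.map (homOfLE (f.preimage_mono h)).op (f.app O c) := fun O h c =>
      congr($(f.naturality (homOfLE h).op) c)
    dsimp only
    erw [key, key]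
    exact e1.trans e2.symm
  refine ⟨g, ModGlueLib.eq_of_locally _ _ fun p hp => ⟨f ⁻¹ᵁ N ⟨f p, hp⟩, f.preimage_mono (hN _), hqN _, ?_⟩⟩
  refine Eq.trans ?_ ((hr ⟨f p, hp⟩).trans (AmpleLib.res_res L _ _ _).symm)
  change res L _ ((show Γ(X, f ⁻¹ᵁ (V j ⊓ V i)) from f.app _ g) • res L _ (τ i)) = _
  rw [AmpleLib.res_smul, AmpleLib.res_res]
  refine congrArg (fun t => t • _) ?_
  rw [← hg ⟨f p, hp⟩]
  exact congr($(f.naturality (homOfLE (hN ⟨f p, hp⟩)).op) g).symm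

end Div21LineLib

end
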