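import Groth.Agent.Div21LineLib.Basic
import Groth.Agent.Div21LineLib.Ideal

/-!
# Rational sections and their equations along fibres
-/

set_option autoImplicit false
set_option backward.isDefEq.respectTransparency.types false

universe u

open CategoryTheory CategoryTheory.Limits AlgebraicGeometry TopologicalSpace IsLocalRing
open KFlatLib (pb puSec)
open AmpleLib (res GenAt GenOn)

noncomputable section

namespace Div21LineLib

open DivDescLib

variable {X Y : Scheme.{u}} (f : X ⟶ Y) {L : X.Modules}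

theorem φW_germ (W : Y.Opens) {O : X.Opens} (hOW : O ≤ f ⁻¹ᵁ W) {x : X} (hx : x ∈ O) (a : Γ(Y, W)) :
    (X.presheaf.germ O x hx).hom ((f.appLE W O hOW).hom a) = φW f W x (hOW hx) a :=
  congrArg (fun F : Γ(Y, W) →+* X.presheaf.stalk x => F a) (germ_stalkMap_appLE f W O hOW hx)

theorem exists_rat_affine [IsLocallyNoetherian Y] (hY : Pi1.IsNormalScheme Y) (W : Y.affineOpens)
    [IsDomain Γ(Y, W.1)] {Ω : X.Opens} (E : Γ(L, Ω)) (hΩ : ∀ p : X, Mx (f p) → p ∈ Ω) (V : X.affineOpens)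
    (hVW : V.1 ≤ f ⁻¹ᵁ W.1) (ν : Γ(L, V.1)) (hν : GenOn L ν) :
    ∃ (a : Γ(Y, W.1)) (_ : a ≠ 0) (σ : Γ(L, V.1)), ∀ p (hp : p ∈ V.1) (hmx : Mx (f p)),
      L.presheaf.germ V.1 p hp σ = φW f W.1 p (hVW hp) a • L.presheaf.germ Ω p (hΩ p hmx) E := by
  obtain ⟨a, ha, hsub⟩ := exists_unit_subset f W V hVW Ω hΩ
  let s := (f.appLE W.1 V.1 hVW).hom a
  have hgs : ∀ q (hq : q ∈ V.1), (X.presheaf.germ V.1 q hq).hom s = φW f W.1 q (hVW hq) a := fun q hq =>
    φW_germ f W.1 hVW hq a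
  have hDΩ : X.basicOpen s ≤ Ω := fun p hp => by
    have hpV := X.basicOpen_le s hp
    have hu := (Scheme.mem_basicOpen X s p hpV).1 hp
    change IsUnit ((X.presheaf.germ V.1 p hpV).hom s) at hu
    rw [hgs] at hu
    exact hsub p hpV hu
  obtain ⟨c, hc⟩ := (hν (X.basicOpen s) (X.basicOpen_le s)).2 (res L hDΩ E)
  dsimp only at hc
  letI := V.2.isLocalization_basicOpen s
  obtain ⟨⟨r, ⟨_, n, rfl⟩⟩, hr⟩ := IsLocalization.surj (Submonoid.powers s) c
  dsimp only at hr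
  refine ⟨a ^ n, pow_ne_zero n ha, r • ν, fun p hp hmx => ?_⟩
  have hpD : p ∈ X.basicOpen s := by
    rw [Scheme.mem_basicOpen X s p hp]
    change IsUnit ((X.presheaf.germ V.1 p hp).hom s)
    rw [hgs]
    exact isUnit_φW f hY W (hVW hp) hmx ha
  have hgr : ∀ q : Γ(X, V.1), (X.presheaf.germ (X.basicOpen s) p hpD).hom (algebraMap Γ(X, V.1) Γ(X, X.basicOpen s) q) =
      (X.presheaf.germ V.1 p hp).hom q := fun q =>
    TopCat.Presheaf.germ_res_apply X.presheaf (homOfLE (X.basicOpen_le s)) p hpD q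
  have e := congrArg (X.presheaf.germ (X.basicOpen s) p hpD).hom hr
  rw [map_mul, hgr, hgr, map_pow, hgs, ← map_pow] at e
  have hcE := congrArg (L.presheaf.germ (X.basicOpen s) p hpD) hc
  rw [AmpleLib.germ_smul, AmpleLib.germ_res, AmpleLib.germ_res] at hcE
  rw [AmpleLib.germ_smul]
  change (X.presheaf.germ V.1 p hp).hom r • _ = _
  rw [← e, mul_comm, mul_smul]
  exact congrArg _ hcE

/-- A section on a compact open which is a multiple of the frame by a nonzero function of the base. -/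
theorem exists_rat [IsLocallyNoetherian Y] [Flat f] (hY : Pi1.IsNormalScheme Y) (hL : PicF.IsInvertible L)
    (W : Y.affineOpens) [IsDomain Γ(Y, W.1)] {Ω : X.Opens} (E : Γ(L, Ω)) (hΩ : ∀ p : X, Mx (f p) → p ∈ Ω)
    (U : X.Opens) (hUc : IsCompact (U : Set X)) (hUW : U ≤ f ⁻¹ᵁ W.1) :
    ∃ (a : Γ(Y, W.1)) (_ : a ≠ 0) (σ : Γ(L, U)), ∀ p (hp : p ∈ U) (hmx : Mx (f p)),
      L.presheaf.germ U p hp σ = φW f W.1 p (hUW hp) a • L.presheaf.germ Ω p (hΩ p hmx) E := by
  classical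
  have hcov : ∀ x : (U : Set X), ∃ (V : X.affineOpens) (ν : Γ(L, V.1)), (x : X) ∈ V.1 ∧ V.1 ≤ U ∧ GenOn L ν := by
    intro x
    obtain ⟨T, ν, hxT, hν⟩ := TwistLib.exists_genOn hL (x : X)
    obtain ⟨V, hV, hxV, hle⟩ := exists_isAffineOpen_mem_and_subset (x := (x : X)) (U := U ⊓ T) ⟨x.2, hxT⟩
    exact ⟨⟨V, hV⟩, res L (fun p hp => (hle hp).2) ν, hxV, fun p hp => (hle hp).1, hν.res _⟩
  choose V ν hxV hVU hν using hcov
  obtain ⟨T, hT⟩ := hUc.elim_finite_subcover (fun x => ((V x).1 : Set X)) (fun x => (V x).1.2)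
    fun x hx => Set.mem_iUnion.2 ⟨⟨x, hx⟩, hxV _⟩
  choose a ha σ hσ using fun x : T => exists_rat_affine f hY W E hΩ (V x.1) ((hVU x.1).trans hUW) (ν x.1) (hν x.1)
  let A := ∏ x, a x
  have hA : A ≠ 0 := Finset.prod_ne_zero_iff.2 fun x _ => ha x
  choose b hb using fun x : T => Finset.dvd_prod_of_mem a (Finset.mem_univ x)
  let σ' : ∀ x : T, Γ(L, (V x.1).1) := fun x => (f.appLE W.1 (V x.1).1 ((hVU x.1).trans hUW)).hom (b x) • σ x
  have hσ' : ∀ (x : T) p (hp : p ∈ (V x.1).1) (hmx : Mx (f p)), L.presheaf.germ (V x.1).1 p hp (σ' x) =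
      φW f W.1 p (hUW (hVU x.1 hp)) A • L.presheaf.germ Ω p (hΩ p hmx) E := fun x p hp hmx => by
    rw [AmpleLib.germ_smul, hσ x p hp hmx, smul_smul]
    change ((X.presheaf.germ (V x.1).1 p hp).hom ((f.appLE W.1 (V x.1).1 _).hom (b x)) * _) • _ = _
    rw [φW_germ, show A = a x * b x from hb x, map_mul, mul_comm]
  obtain ⟨G, hG⟩ := ModGlueLib.exists_glue (M := L) (V := U) (fun x : T => (V x.1).1) (fun x => hVU x.1)
    (fun p hp => by
      obtain ⟨x, hxT, hpx⟩ := Set.mem_iUnion₂.1 (hT hp)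
      exact ⟨⟨x, hxT⟩, hpx⟩) σ' fun k l => by
    refine sec_ext f hY hL _ _ fun p hp hmx => ?_
    change L.presheaf.germ _ p hp (res L inf_le_left (σ' k)) = L.presheaf.germ _ p hp (res L inf_le_right (σ' l))
    rw [AmpleLib.germ_res, AmpleLib.germ_res, hσ' k p _ hmx, hσ' l p _ hmx]
  refine ⟨A, hA, G, fun p hp hmx => ?_⟩
  obtain ⟨x, hxT, hpx⟩ := Set.mem_iUnion₂.1 (hT hp)
  rw [← hσ' ⟨x, hxT⟩ p hpx hmx, ← hG ⟨x, hxT⟩]
  exact (AmpleLib.germ_res L (hVU x) G hpx).symm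

/-- A family of local equations, trivial over maximal points, comes from one function along a fibre. -/
theorem exists_principal [IsLocallyNoetherian X] [IsLocallyNoetherian Y] [Flat f] [CompactSpace X]
    (hY : Pi1.IsNormalScheme Y)
    (hfib : ∀ y : ↥Y, ringKrullDim ↑(Y.presheaf.stalk y) = 1 → ∀ _ : ↥(f.fiber y), IsIntegral (f.fiber y))
    (W : Y.affineOpens) (hfW : ∀ x : X, f x ∈ W.1) (c : ∀ x, X.presheaf.stalk x)
    (hloc : ∀ x : X, ∃ (O : X.affineOpens) (r : Γ(X, O.1)), x ∈ O.1 ∧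
      ∀ (x' : X) (hx' : x' ∈ O.1), Ideal.span {(X.presheaf.germ O.1 x' hx').hom r} = Ideal.span {c x'})
    (hc : ∀ x, c x ∈ nonZeroDivisors (X.presheaf.stalk x)) (hcu : ∀ x, Mx (f x) → IsUnit (c x)) (x : X) :
    ∃ k : Γ(Y, W.1), ∀ x' : X, f x' = f x → Ideal.span {c x'} = Ideal.span {φW f W.1 x' (hfW x') k} := by
  obtain ⟨J, hJ, hJc⟩ := exists_ideal c hloc hc
  have h0 : ∀ η : ↥Y, (∀ z : ↥Y, z ⤳ η → z = η) → ∀ x : X, f x = η → IntMult.stalkIdeal J x = ⊤ := by
    rintro η hη x rfl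
    rw [hJc]
    exact Ideal.span_singleton_eq_top.2 (hcu x hη)
  have hU : ((⊤ : X.Opens) : Set X) ⊆ f ⁻¹' W.1 := fun z _ => hfW z
  set K := KU f J W.1 ((⊤ : X.Opens) : Set X) hU
  have hsol : ∀ z : X, Ideal.span {c z} = K.map (φW f W.1 z (hfW z)) := fun z => by
    rw [← hJc z]
    exact sol_of_compact f hJ (fun y hy => locAt_of_integral f hY hfib hJ h0 y hy) W ⊤ isCompact_univ hU z trivial
  have key : ∃ k ∈ K, Ideal.span {c x} = Ideal.span {φW f W.1 x (hfW x) k} := by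
    by_contra hne
    push Not at hne
    have hmem : ∀ k ∈ K, φW f W.1 x (hfW x) k ∈ maximalIdeal (X.presheaf.stalk x) * Ideal.span {c x} := by
      intro k hk
      have h1 : φW f W.1 x (hfW x) k ∈ Ideal.span {c x} := by rw [hsol x]; exact Ideal.mem_map_of_mem _ hk
      obtain ⟨t, ht⟩ := Ideal.mem_span_singleton'.1 h1
      rw [← ht]
      refine Ideal.mul_mem_mul ((mem_maximalIdeal _).2 fun hu => hne k hk ?_) (Ideal.mem_span_singleton_self _)
      rw [← ht, Ideal.span_singleton_mul_left_unit hu]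
    have h2 : c x ∈ maximalIdeal (X.presheaf.stalk x) * Ideal.span {c x} :=
      (hsol x ▸ Ideal.map_le_iff_le_comap.2 hmem) (Ideal.mem_span_singleton_self _)
    obtain ⟨z, hz, hzc⟩ := Ideal.mem_mul_span_singleton.1 h2
    have h3 : (1 - z) * c x = 0 := by rw [sub_mul, one_mul, hzc, sub_self]
    have h4 := mem_nonZeroDivisors_iff_right.1 (hc x) _ h3
    exact (mem_maximalIdeal _).1 hz (by rw [← sub_eq_zero.1 h4]; exact isUnit_one)
  obtain ⟨k, -, hk⟩ := key
  refine ⟨k, ?_⟩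
  have hφ : ∀ (z : X) (I : Ideal Γ(Y, W.1)), I.map (φW f W.1 z (hfW z)) =
      (I.map (Y.presheaf.germ W.1 (f z) (hfW z)).hom).map (f.stalkMap z).hom := fun z I =>
    (Ideal.map_map _ _).symm
  have hKx : K.map (Y.presheaf.germ W.1 (f x) (hfW x)).hom =
      Ideal.span {(Y.presheaf.germ W.1 (f x) (hfW x)).hom k} := by
    have h := (hsol x).symm.trans hk
    rw [hφ] at h
    have h' := congrArg (Ideal.comap (f.stalkMap x).hom) h
    rw [comap_map_self _ (flat_stalkMap f x)] at h'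
    rw [h', show Ideal.span {φW f W.1 x (hfW x) k} =
      (Ideal.span {(Y.presheaf.germ W.1 (f x) (hfW x)).hom k}).map (f.stalkMap x).hom from by
        rw [Ideal.map_span, Set.image_singleton]; rfl, comap_map_self _ (flat_stalkMap f x)]
  intro x' hx'
  have tr : ∀ (y : Y) (hy : y ∈ W.1), y = f x → K.map (Y.presheaf.germ W.1 y hy).hom =
      Ideal.span {(Y.presheaf.germ W.1 y hy).hom k} := by
    rintro y hy rfl; exact hKx
  rw [hsol x', hφ, tr _ _ hx', Ideal.map_span, Set.image_singleton]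
  rfl

theorem exists_unit_of_span {A : Type u} [CommRing A] {c c' : A} (hc : c ∈ nonZeroDivisors A)
    (h : Ideal.span {c} = Ideal.span {c'}) : ∃ v : Aˣ, c' * v = c := by
  obtain ⟨s, hs⟩ := Ideal.mem_span_singleton'.1 (h ▸ Ideal.mem_span_singleton_self c)
  obtain ⟨t, ht⟩ := Ideal.mem_span_singleton'.1 (h.symm ▸ Ideal.mem_span_singleton_self c')
  have hst : (s * t - 1) * c = 0 := by rw [sub_mul, one_mul, mul_assoc, ht, hs, sub_self]
  have h1 := sub_eq_zero.1 (mem_nonZeroDivisors_iff_right.1 hc _ hst)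
  exact ⟨⟨s, t, h1, by rw [mul_comm]; exact h1⟩, by rw [mul_comm]; exact hs⟩

theorem span_eq_of_smul {x : X} {ξ ξ' : L.presheaf.stalk x} {c c' : X.presheaf.stalk x}
    (h : Function.Bijective fun q : X.presheaf.stalk x => q • ξ)
    (h' : Function.Bijective fun q : X.presheaf.stalk x => q • ξ') (e : c • ξ = c' • ξ') :
    Ideal.span {c} = Ideal.span {c'} ∧ ∃ v : (X.presheaf.stalk x)ˣ, c' * v = c := by
  obtain ⟨u, hu⟩ := h.2 ξ'
  obtain ⟨v, hv⟩ := h'.2 ξ
  dsimp only at hu hv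
  have huv : v * u = 1 := h.1 (by dsimp only; rw [mul_smul, hu, hv, one_smul])
  have h1 : c = c' * u := h.1 (by dsimp only; rw [mul_smul, hu, e])
  have huu : IsUnit u := isUnit_iff_exists_inv'.2 ⟨v, huv⟩
  exact ⟨by rw [h1, Ideal.span_singleton_mul_right_unit huu], huu.unit, h1.symm⟩

theorem isIntegral_fiber_comp {U : Scheme.{u}} (j : U ⟶ X) [IsOpenImmersion j] (y : Y) [IsIntegral (f.fiber y)]
    (z : ((j ≫ f).fiber y : Scheme.{u})) : IsIntegral ((j ≫ f).fiber y) := by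
  haveI : Nonempty ((j ≫ f).fiber y : Scheme.{u}) := ⟨z⟩
  haveI : IsIntegral (pullback f (Y.fromSpecResidueField y)) := ‹IsIntegral (f.fiber y)›
  haveI : Nonempty (pullback (j ≫ f) (Y.fromSpecResidueField y) : Scheme.{u}) := ⟨z⟩
  exact isIntegral_of_isOpenImmersion
    ((pullbackRightPullbackFstIso f (Y.fromSpecResidueField y) j).inv ≫ pullback.snd j (pullback.fst f _))

/-- Along a fibre, a rational section is one function of the base times generators. -/
theorem exists_eqn [IsLocallyNoetherian X] [IsLocallyNoetherian Y] [Flat f] (hY : Pi1.IsNormalScheme Y)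
    (hfib : ∀ y : ↥Y, ringKrullDim ↑(Y.presheaf.stalk y) = 1 → IsIntegral (f.fiber y)) (hL : PicF.IsInvertible L)
    (W : Y.affineOpens) [IsDomain Γ(Y, W.1)] {Ω : X.Opens} (E : Γ(L, Ω)) (hE : GenOn L E)
    (hΩ : ∀ p : X, Mx (f p) → p ∈ Ω) (U : X.Opens) (hUc : IsCompact (U : Set X)) (hUW : U ≤ f ⁻¹ᵁ W.1)
    (a : Γ(Y, W.1)) (ha : a ≠ 0) (σ : Γ(L, U))
    (hσ : ∀ p (hp : p ∈ U) (hmx : Mx (f p)),
      L.presheaf.germ U p hp σ = φW f W.1 p (hUW hp) a • L.presheaf.germ Ω p (hΩ p hmx) E)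
    (x : X) (hx : x ∈ U) :
    ∃ (k : Γ(Y, W.1)) (_ : k ≠ 0), ∀ x' (hx' : x' ∈ U), f x' = f x → ∃ ξ : L.presheaf.stalk x',
      Function.Bijective (fun q : X.presheaf.stalk x' => q • ξ) ∧
      L.presheaf.germ U x' hx' σ = φW f W.1 x' (hUW hx') k • ξ := by
  have hgen : ∀ p : X, ∃ ξ : L.presheaf.stalk p, Function.Bijective fun q : X.presheaf.stalk p => q • ξ := fun p => by
    obtain ⟨T, ν, hpT, hν⟩ := TwistLib.exists_genOn hL p
    exact ⟨_, hν.genAt hpT⟩
  choose ξ hξ using hgen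
  choose d hd using fun (p : X) (hp : p ∈ U) => (hξ p).2 (L.presheaf.germ U p hp σ)
  let g : (U : Scheme.{u}) ⟶ Y := U.ι ≫ f
  haveI : Flat g := by dsimp only [g]; infer_instance
  haveI : CompactSpace (U : Scheme.{u}) := isCompact_iff_compactSpace.1 hUc
  let c : ∀ p : (U : Scheme.{u}), (U : Scheme.{u}).presheaf.stalk p := fun p => (U.ι.stalkMap p).hom (d _ p.2)
  have hbij : ∀ p : (U : Scheme.{u}), Function.Bijective (U.ι.stalkMap p).hom := fun p =>
    ConcreteCategory.bijective_of_isIso (U.ι.stalkMap p)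
  have hdloc : ∀ p (hp : p ∈ U), ∃ (T : X.Opens) (_ : p ∈ T) (hTU : T ≤ U) (r : Γ(X, T)) (ν : Γ(L, T)), GenOn L ν ∧
      r • ν = res L hTU σ := fun p hp => by
    obtain ⟨T, ν, hpT, hν⟩ := TwistLib.exists_genOn hL p
    obtain ⟨r, hr⟩ := (hν (T ⊓ U) inf_le_left).2 (res L inf_le_right σ)
    exact ⟨T ⊓ U, ⟨hpT, hp⟩, inf_le_right, r, _, hν.res _, hr⟩
  have hdr : ∀ p (hp : p ∈ U) (T : X.Opens) (hpT : p ∈ T) (hTU : T ≤ U) (r : Γ(X, T)) (ν : Γ(L, T)), GenOn L ν →
      r • ν = res L hTU σ → Ideal.span {(X.presheaf.germ T p hpT).hom r} = Ideal.span {d p hp} ∧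
        ∃ v : (X.presheaf.stalk p)ˣ, d p hp * v = (X.presheaf.germ T p hpT).hom r := by
    intro p hp T hpT hTU r ν hν e
    refine span_eq_of_smul (hν.genAt hpT) (hξ p) (Eq.trans ?_ (hd p hp).symm)
    refine (AmpleLib.germ_smul L r ν hpT).symm.trans ((congrArg _ e).trans ?_)
    exact AmpleLib.germ_res L hTU σ hpT
  have hdu : ∀ p (hp : p ∈ U), Mx (f p) → IsUnit (d p hp) := by
    intro p hp hmx
    have h1 := (span_eq_of_smul (hE.genAt (hΩ p hmx)) (hξ p) ((hσ p hp hmx).symm.trans (hd p hp).symm)).1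
    rw [Ideal.span_singleton_eq_top.2 (isUnit_φW f hY W (hUW hp) hmx ha)] at h1
    exact Ideal.span_singleton_eq_top.1 h1.symm
  have hdnz : ∀ p (hp : p ∈ U), d p hp ∈ nonZeroDivisors (X.presheaf.stalk p) := by
    intro p hp
    obtain ⟨T, hpT, hTU, r, ν, hν, e⟩ := hdloc p hp
    obtain ⟨-, u, hu⟩ := hdr p hp T hpT hTU r ν hν e
    rw [show d p hp = (X.presheaf.germ T p hpT).hom r * ↑u⁻¹ by rw [← hu, Units.mul_inv_cancel_right]]
    refine Submonoid.mul_mem _ ?_ u⁻¹.isUnit.mem_nonZeroDivisors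
    rw [mem_nonZeroDivisors_iff_right]
    intro t ht
    obtain ⟨O, hpO, s, rfl⟩ := X.presheaf.exists_germ_eq t
    have h0 : (X.presheaf.germ (O ⊓ T) p ⟨hpO, hpT⟩).hom
        ((X.presheaf.map (homOfLE (inf_le_left : O ⊓ T ≤ O)).op).hom s *
          (X.presheaf.map (homOfLE (inf_le_right : O ⊓ T ≤ T)).op).hom r) =
        (X.presheaf.germ (O ⊓ T) p ⟨hpO, hpT⟩).hom 0 := by
      rw [map_mul, map_zero]
      erw [TopCat.Presheaf.germ_res_apply, TopCat.Presheaf.germ_res_apply]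
      exact ht
    obtain ⟨Q, hpQ, i₁, i₂, eQ⟩ := X.presheaf.germ_eq p _ _ _ _ h0
    have hz : (X.presheaf.map (homOfLE (i₁.le.trans inf_le_left) : Q ⟶ O).op).hom s = 0 := by
      refine fun_eq_zero f hY _ fun q hq hmx => ?_
      have e1 := congrArg (X.presheaf.germ Q q hq) eQ
      erw [TopCat.Presheaf.germ_res_apply, TopCat.Presheaf.germ_res_apply] at e1
      erw [map_mul, map_zero, TopCat.Presheaf.germ_res_apply, TopCat.Presheaf.germ_res_apply] at e1
      have hqT : q ∈ T := (i₁.le hq).2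
      have hur : IsUnit ((X.presheaf.germ T q hqT).hom r) := by
        rw [← Ideal.span_singleton_eq_top, (hdr q (hTU hqT) T hqT hTU r ν hν e).1, Ideal.span_singleton_eq_top]
        exact hdu q _ hmx
      refine Eq.trans ?_ (hur.mul_left_eq_zero.1 e1)
      exact TopCat.Presheaf.germ_res_apply X.presheaf _ q hq s
    have := congrArg (X.presheaf.germ Q p hpQ) hz
    rw [map_zero] at this
    refine Eq.trans ?_ this
    exact (TopCat.Presheaf.germ_res_apply X.presheaf _ p hpQ s).symm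
  have hloc : ∀ p : (U : Scheme.{u}), ∃ (O : (U : Scheme.{u}).affineOpens) (r : Γ((U : Scheme.{u}), O.1)), p ∈ O.1 ∧
      ∀ p' (hp' : p' ∈ O.1), Ideal.span {((U : Scheme.{u}).presheaf.germ O.1 p' hp').hom r} = Ideal.span {c p'} := by
    intro p
    obtain ⟨T, hpT, hTU, r, ν, hν, e⟩ := hdloc _ p.2
    obtain ⟨O, hO, hpO, hle⟩ := exists_isAffineOpen_mem_and_subset (x := p) (U := U.ι ⁻¹ᵁ T) hpT
    refine ⟨⟨O, hO⟩, ((U : Scheme.{u}).presheaf.map (homOfLE hle : O ⟶ U.ι ⁻¹ᵁ T).op).hom ((U.ι.app T).hom r), hpO,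
      fun p' hp' => ?_⟩
    erw [TopCat.Presheaf.germ_res_apply, ← Scheme.Hom.germ_stalkMap_apply U.ι T p' (hle hp') r]
    have h1 := congrArg (Ideal.map (U.ι.stalkMap p').hom) (hdr _ p'.2 T (hle hp') hTU r ν hν e).1
    erw [Ideal.map_span, Ideal.map_span, Set.image_singleton, Set.image_singleton] at h1
    exact h1
  have hcnz : ∀ p, c p ∈ nonZeroDivisors _ := fun p => by
    refine mem_nonZeroDivisors_iff_right.2 fun t ht => ?_
    obtain ⟨t', rfl⟩ := (hbij p).2 t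
    rw [mem_nonZeroDivisors_iff_right.1 (hdnz _ p.2) t' ((hbij p).1 (((map_mul _ _ _).trans ht).trans (map_zero _).symm))]
    exact map_zero _
  obtain ⟨k, hk⟩ := exists_principal g hY
    (fun y hy z => by haveI := hfib y hy; exact isIntegral_fiber_comp f U.ι y z) W (fun p => hUW p.2) c hloc hcnz
    (fun p hp => (hdu _ p.2 hp).map _) ⟨x, hx⟩
  have hk' : ∀ x' (hx' : x' ∈ U), f x' = f x → Ideal.span {d x' hx'} = Ideal.span {φW f W.1 x' (hUW hx') k} := by
    intro x' hx' e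
    have h1 := hk ⟨x', hx'⟩ e
    rw [show φW g W.1 ⟨x', hx'⟩ (hUW hx') k = (U.ι.stalkMap ⟨x', hx'⟩).hom (φW f W.1 x' (hUW hx') k) from by
      simp only [φW, RingHom.comp_apply, g]
      rw [Scheme.Hom.stalkMap_comp]
      rfl] at h1
    have h2 := congrArg (Ideal.comap (U.ι.stalkMap ⟨x', hx'⟩).hom) h1
    have hcm : ∀ q, Ideal.comap (U.ι.stalkMap ⟨x', hx'⟩).hom (Ideal.span {(U.ι.stalkMap ⟨x', hx'⟩).hom q}) =
        Ideal.span {q} := fun q => by
      rw [← Set.image_singleton, ← Ideal.map_span, comap_map_self _ (flat_stalkMap U.ι _)]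
    rwa [hcm, hcm] at h2
  refine ⟨k, fun h0 => ?_, fun x' hx' e => ?_⟩
  · have h1 := hk' x hx rfl
    rw [h0, map_zero, Ideal.span_singleton_eq_bot.2 rfl, Ideal.span_singleton_eq_bot] at h1
    exact nonZeroDivisors.ne_zero (hdnz x hx) h1
  · obtain ⟨u, hu⟩ := exists_unit_of_span (hdnz x' hx') (hk' x' hx' e)
    refine ⟨(u : X.presheaf.stalk x') • ξ x', ?_, ?_⟩
    · simp only [smul_smul]
      exact (hξ x').comp u.mulRight.bijective
    · rw [smul_smul, hu]
      exact (hd x' hx').symm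

end Div21LineLib

end
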